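import Cfsg.Agent.Lib.KpRegular.Arith

/-!
The primitive part of `3 ^ n - 1` seldom divides `n (n + 1)`.
-/

set_option autoImplicit false

namespace CfsgLib.KgvTrans

open CfsgLib.Zsigmondy

theorem poly_lt_three_pow : ∀ t, 12 ≤ t → 8 * t ^ 2 * (2 * t ^ 2 + 1) < 3 ^ t := by
  intro t ht
  induction t, ht using Nat.le_induction with
  | base => norm_num
  | succ t ht ih =>
    have h1 : (t + 1) ^ 2 * 12 ^ 2 ≤ t ^ 2 * 13 ^ 2 := by
      rw [← mul_pow, ← mul_pow]; exact Nat.pow_le_pow_left (by omega) 2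
    have h2 : (2 * (t + 1) ^ 2 + 1) * 12 ^ 2 ≤ (2 * t ^ 2 + 1) * 13 ^ 2 := by omega
    have h3 : (t + 1) ^ 2 * (2 * (t + 1) ^ 2 + 1) * 12 ^ 4 ≤ t ^ 2 * (2 * t ^ 2 + 1) * 13 ^ 4 :=
      le_trans (le_of_eq (by ring)) ((Nat.mul_le_mul h1 h2).trans (le_of_eq (by ring)))
    have h4 : 13 ^ 4 ≤ 3 * 12 ^ 4 := by norm_num
    have h5 := Nat.mul_le_mul_left (t ^ 2 * (2 * t ^ 2 + 1)) h4
    rw [pow_succ (3 : ℕ)]
    nlinarith

theorem three_finite : ∀ n ∈ List.range 243, 3 ≤ n → n.totient ≤ 11 →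
    3 ^ n.totient ≤ 4 * (n * (n + 1)) →
    3 ^ n - 1 ∣ n * (n + 1) * ∏ d ∈ n.properDivisors, (3 ^ d - 1) → n = 4 ∨ n = 6 := by
  decide +kernel

theorem three_primitive_part {n : ℕ} (hn : 3 ≤ n)
    (hdvd : CfsgLib.Zsigmondy.cyclotomicValue 3 n ∣ n * (n + 1)) : n = 4 ∨ n = 6 := by
  set t := n.totient with ht
  have hK : 0 < n * (n + 1) := by positivity
  have hpow : 3 ^ t ≤ 4 * (n * (n + 1)) :=
    (FGStruct.PrimitivePart.pow_totient_le (by omega) (by omega)).trans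
      (Nat.mul_le_mul_left 4 (Nat.le_of_dvd hK hdvd))
  have hsq : n ≤ 2 * t ^ 2 := (FGStruct.PrimitivePart.le_two_mul_totient_sq n).1
  have ht11 : t ≤ 11 := by
    by_contra hlt
    push Not at hlt
    have ha : n + 1 ≤ 2 * t ^ 2 + 1 := by omega
    have h1 : 4 * (n * (n + 1)) ≤ 8 * t ^ 2 * (2 * t ^ 2 + 1) :=
      le_trans (Nat.mul_le_mul_left 4 (Nat.mul_le_mul hsq ha)) (le_of_eq (by ring))
    have := poly_lt_three_pow t hlt
    omega
  have hn243 : n < 243 := by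
    have : t ^ 2 ≤ 11 ^ 2 := Nat.pow_le_pow_left ht11 2
    omega
  exact three_finite n (List.mem_range.2 hn243) hn ht11 hpow
    (KpRegular.pow_sub_one_dvd (by norm_num) (by omega) hdvd)

end CfsgLib.KgvTrans
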