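import Mathlib.Algebra.GroupWithZero.Action.Defs
import Mathlib.GroupTheory.GroupAction.Defs
import Mathlib.Algebra.Group.Conj
import Mathlib.SetTheory.Cardinal.Finite

/-!
# Transitive coprime linear groups and the class number of the semidirect product
-/

set_option autoImplicit false

namespace CfsgLib.KgvTrans

/-- Every vector stabiliser is trivial, or the two class numbers add up to less than the number of
vectors, or we are in one of the two exceptional configurations. -/
def Small (D E : Type*) [Group D] [AddCommGroup E] [DistribMulAction D E] : Prop :=
  ∀ v : E, v ≠ 0 →
    Nat.card (MulAction.stabilizer D v) = 1 ∨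
      Nat.card (ConjClasses D) + Nat.card (MulAction.stabilizer D v) < Nat.card E ∨
      (Nat.card E = 8 ∧ Nat.card D = 21) ∨ (Nat.card E = 9 ∧ Nat.card D = 16)

end CfsgLib.KgvTrans
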