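import Cfsg.Agent.Lib.KgvTrans.Defs
import Cfsg.Agent.Lib.KpRegular.Semilinear
import Cfsg.Agent.Lib.Char.Burnside
import Cfsg.Agent.Lib.SelfCentNoncyclic.Dihedral

/-!
# Coprime transitive linear groups of degree four over three elements

Either an element of order five spans a normal subgroup, or the order is at most `640` and the
non-scalar classes have at least ten elements.
-/

set_option autoImplicit false
set_option linter.style.haveILetI false
set_option linter.unusedSectionVars false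

open Subgroup
open scoped Pointwise

namespace CfsgLib.KgvTrans

namespace EightyOne

/-- Simultaneous eigenvectors with distinct eigencharacters are independent. -/
theorem indep_of_eigen {K V ι M : Type*} [Field K] [AddCommGroup V] [Module K V] (T : M → Module.End K V)
    (w : ι → V) (c : ι → M → K) (hw : ∀ i, w i ≠ 0) (he : ∀ i m, T m (w i) = c i m • w i)
    (hc : Function.Injective c) : LinearIndependent K w := by
  classical
  rw [linearIndependent_iff']
  intro s
  induction s using Finset.induction with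
  | empty => simp
  | @insert a s ha ih =>
    intro g hsum
    rw [Finset.sum_insert ha] at hsum
    have hz : ∀ j ∈ s, g j = 0 := by
      intro j hj
      obtain ⟨m, hm⟩ : ∃ m, c j m ≠ c a m := by
        by_contra h
        push Not at h
        exact ha (hc (funext h) ▸ hj)
      have h1 := congrArg (fun v => T m v - c a m • v) hsum
      simp only [map_add, map_sum, map_smul, he, smul_add, Finset.smul_sum, map_zero, smul_zero, sub_zero, smul_smul,
        mul_comm (c a m) (g a)] at h1
      rw [add_sub_add_left_eq_sub, ← Finset.sum_sub_distrib] at h1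
      have h2 := ih (fun k => g k * c k m - c a m * g k) (by simp only [sub_smul]; exact h1) j hj
      have h3 : g j * (c j m - c a m) = 0 := by rw [← h2]; ring
      exact (mul_eq_zero.mp h3).resolve_right (sub_ne_zero.mpr hm)
    have hsum' : g a • w a = 0 := by
      rw [Finset.sum_eq_zero (fun j hj => by rw [hz j hj, zero_smul]), add_zero] at hsum
      exact hsum
    intro i hi
    rcases Finset.mem_insert.mp hi with rfl | hi
    · exact (smul_eq_zero.mp hsum').resolve_right (hw _)
    · exact hz i hi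

section

variable {G : Type*} [Group G]

/-- A coprime element centralising the commutator centralises the element. -/
theorem commute_of_comm {x n : G} (hx : x ^ 5 = 1) (hc : Commute x (x * n * x⁻¹ * n⁻¹)) {k : ℕ}
    (hk : (x * n * x⁻¹ * n⁻¹) ^ 2 ^ k = 1) : Commute x n := by
  set c := x * n * x⁻¹ * n⁻¹ with hcdef
  have key : ∀ j : ℕ, x ^ j * n * (x ^ j)⁻¹ = c ^ j * n := by
    intro j
    induction j with
    | zero => simp
    | succ j ih =>
      calc x ^ (j + 1) * n * (x ^ (j + 1))⁻¹ = x * (x ^ j * n * (x ^ j)⁻¹) * x⁻¹ := by rw [pow_succ']; group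
        _ = x * c ^ j * n * x⁻¹ := by rw [ih]; group
        _ = c ^ j * x * n * x⁻¹ := by rw [(hc.pow_right j).eq]
        _ = c ^ j * c * n := by rw [hcdef]; group
        _ = _ := by rw [pow_succ]
  have h5 : c ^ 5 = 1 := by
    have h := key 5
    rw [hx, inv_one, one_mul, mul_one] at h
    exact mul_eq_right.mp h.symm
  have h1 : c = 1 :=
    orderOf_eq_one_iff.mp (Nat.eq_one_of_dvd_coprimes (Nat.Coprime.pow_right k (by norm_num : Nat.Coprime 5 2))
      (orderOf_dvd_of_pow_eq_one h5) (orderOf_dvd_of_pow_eq_one hk))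
  exact mul_inv_eq_iff_eq_mul.mp (mul_inv_eq_one.mp (hcdef ▸ h1))

theorem card_fix_modEq [Finite G] (p : ℕ) [Fact p.Prime] (W : Subgroup G) {y : G} {k : ℕ} (hy : y ^ p ^ k = 1)
    (hn : y ∈ normalizer (W : Set G)) : Nat.card W ≡ Nat.card ↥(W ⊓ centralizer {y}) [MOD p] := by
  set β : MulAut W := W.normalizerMonoidHom ⟨y, hn⟩ with hβ
  have hβk : β ^ p ^ k = 1 := by
    rw [hβ, ← map_pow, ← map_one W.normalizerMonoidHom]
    exact congrArg _ (Subtype.ext hy)
  have hP : IsPGroup p (zpowers β) := fun g => ⟨k, by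
    obtain ⟨g, j, rfl⟩ := g
    exact Subtype.ext (show (β ^ j) ^ p ^ k = 1 by
      rw [← zpow_natCast, ← zpow_mul, mul_comm, zpow_mul, zpow_natCast, hβk, one_zpow])⟩
  have h := hP.card_modEq_card_fixedPoints (α := W)
  have hfix : ∀ w : W, w ∈ MulAction.fixedPoints (zpowers β) W ↔ (w : G) ∈ centralizer {y} := by
    intro w
    rw [mem_centralizer_singleton_iff]
    constructor
    · intro hw
      have h1 : ((β w : W) : G) = w := congrArg Subtype.val (hw ⟨β, mem_zpowers β⟩)
      exact (mul_inv_eq_iff_eq_mul.mp (show y * w * y⁻¹ = w from h1)).symm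
    · intro hw g
      have h1 : β ∈ MulAction.stabilizer (MulAut W) w :=
        Subtype.ext (show y * w * y⁻¹ = w by rw [← hw]; group)
      exact (zpowers_le.mpr h1 g.2 : (g : MulAut W) ∈ MulAction.stabilizer (MulAut W) w)
  rw [Nat.card_congr ((Equiv.subtypeEquivRight hfix).trans
    { toFun := fun w => (⟨w.1.1, w.1.2, w.2⟩ : ↥(W ⊓ centralizer {y}))
      invFun := fun w => ⟨⟨w.1, w.2.1⟩, w.2.2⟩
      left_inv := fun w => rfl
      right_inv := fun w => rfl })] at h
  exact h

/-- An element of order five on a two-group of order at most sixteen. -/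
theorem five [Finite G] (W : Subgroup G) (hW : IsPGroup 2 W) (hle : Nat.card W ≤ 16) {x : G} (hx : x ^ 5 = 1)
    (hn : x ∈ normalizer (W : Set G)) :
    (∀ w ∈ W, Commute x w) ∨ (Nat.card W = 16 ∧ ∀ w ∈ W, Commute x w → w = 1) := by
  haveI : Fact (Nat.Prime 2) := ⟨Nat.prime_two⟩
  haveI : Fact (Nat.Prime 5) := ⟨by norm_num⟩
  have hmod := card_fix_modEq 5 W (k := 1) (by rw [pow_one]; exact hx) hn
  obtain ⟨i, hi⟩ := IsPGroup.iff_card.mp hW
  obtain ⟨j, hj⟩ := IsPGroup.iff_card.mp (hW.to_le (inf_le_left : W ⊓ centralizer {x} ≤ W))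
  have hij : 2 ^ j ≤ 2 ^ i := hi ▸ hj ▸ Subgroup.card_le_of_le inf_le_left
  rw [hi, hj] at hmod
  have hi4 : i ≤ 4 := (Nat.pow_le_pow_iff_right (le_refl 2)).mp (hi ▸ hle)
  have hji := (Nat.pow_le_pow_iff_right (le_refl 2)).mp hij
  have : j = i ∨ (i = 4 ∧ j = 0) := by
    interval_cases i <;> interval_cases j <;> simp_all [Nat.ModEq]
  rcases this with rfl | ⟨rfl, rfl⟩
  · left
    have heq : W ⊓ centralizer {x} = W := Subgroup.eq_of_le_of_card_ge inf_le_left (by rw [hi, hj])
    intro w hw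
    exact (mem_centralizer_singleton_iff.mp (heq.symm.le hw).2).symm
  · refine Or.inr ⟨hi, fun w hw hcw => ?_⟩
    have hbot := Subgroup.card_eq_one.mp (hj.trans (pow_zero 2))
    exact Subgroup.mem_bot.mp (hbot ▸ ⟨hw, mem_centralizer_singleton_iff.mpr hcw.eq.symm⟩)

end

variable (D E : Type*) [Group D] [AddCommGroup E] [DistribMulAction D E] [Module (ZMod 3) E]

/-- The linear maps of the action. -/
def lin : D →* Module.End (ZMod 3) E where
  toFun g := (DistribSMul.toAddMonoidHom E g).toZModLinearMap 3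
  map_one' := LinearMap.ext fun w => one_smul D w
  map_mul' g g' := LinearMap.ext fun w => mul_smul g g' w

/-- The elements acting as a sign. -/
def sgn : Subgroup D where
  carrier := {d | lin D E d = 1 ∨ lin D E d = -1}
  one_mem' := Or.inl (map_one _)
  mul_mem' := by
    rintro a b (ha | ha) (hb | hb) <;> simp [Set.mem_ofPred_eq, map_mul, ha, hb]
  inv_mem' := by
    intro a ha
    have h : lin D E a⁻¹ * lin D E a = 1 := by rw [← map_mul, inv_mul_cancel, map_one]
    rcases ha with ha | ha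
    · left; rwa [ha, mul_one] at h
    · right; rw [ha, mul_neg, mul_one] at h; exact neg_eq_iff_eq_neg.mp h

variable {D E} [FaithfulSMul D E]

theorem lin_injective : Function.Injective (lin D E) := fun _ _ h =>
  FaithfulSMul.eq_of_smul_eq_smul fun w : E => LinearMap.congr_fun h w

theorem sgn_comm {s : D} (hs : s ∈ sgn D E) (g : D) : Commute s g :=
  lin_injective (E := E) (by rcases hs with hs | hs <;> simp [map_mul, hs])

theorem sgn_eq {s t : D} (hs : s ∈ sgn D E) (ht : t ∈ sgn D E) (hs1 : s ≠ 1) (ht1 : t ≠ 1) : s = t := by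
  refine lin_injective (E := E) ?_
  rw [hs.resolve_left fun h => hs1 (lin_injective (E := E) (h.trans (map_one _).symm)),
    ht.resolve_left fun h => ht1 (lin_injective (E := E) (h.trans (map_one _).symm))]

instance sgn_normal : (sgn D E).Normal :=
  ⟨fun s hs g => by rw [← (sgn_comm hs g).eq, mul_inv_cancel_right]; exact hs⟩

open scoped Classical in
/-- The sign by which two elements commute. -/
noncomputable def sign (b m : D) : ZMod 3 := if Commute m b then 1 else -1

theorem lin_conj {b m : D} (h : m * b * m⁻¹ * b⁻¹ ∈ sgn D E) :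
    lin D E m * lin D E b * lin D E m⁻¹ = sign b m • lin D E b := by
  rw [← map_mul, ← map_mul, sign]
  split_ifs with hc
  · rw [hc.eq, mul_inv_cancel_right, one_smul]
  · have hne : m * b * m⁻¹ * b⁻¹ ≠ 1 := fun e => hc (mul_inv_eq_iff_eq_mul.mp (mul_inv_eq_one.mp e))
    have hs := h.resolve_left fun e => hne (lin_injective (E := E) (e.trans (map_one _).symm))
    rw [show m * b * m⁻¹ = m * b * m⁻¹ * b⁻¹ * b by group, map_mul, hs, neg_smul, one_smul, neg_mul, one_mul]

theorem commute_of_sign_eq {b b' m : D} (h : m * b * m⁻¹ * b⁻¹ ∈ sgn D E) (h' : m * b' * m⁻¹ * b'⁻¹ ∈ sgn D E)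
    (he : sign b m = sign b' m) : Commute m (b⁻¹ * b') := by
  by_cases hc : Commute m b
  · have : Commute m b' := by
      by_contra hc'
      rw [sign, sign, if_pos hc, if_neg hc'] at he
      exact absurd he (by decide)
    exact hc.inv_right.mul_right this
  · have hc' : ¬ Commute m b' := fun hc' => by
      rw [sign, sign, if_neg hc, if_pos hc'] at he
      exact absurd he (by decide)
    have e := sgn_eq h h' (fun e => hc (mul_inv_eq_iff_eq_mul.mp (mul_inv_eq_one.mp e)))
      (fun e => hc' (mul_inv_eq_iff_eq_mul.mp (mul_inv_eq_one.mp e)))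
    set s := m * b * m⁻¹ * b⁻¹ with hs
    have e1 : m * b * m⁻¹ = s * b := by rw [hs]; group
    have e2 : m * b' * m⁻¹ = s * b' := by rw [e]; group
    have e3 : m * (b⁻¹ * b') * m⁻¹ = b⁻¹ * b' := by
      calc m * (b⁻¹ * b') * m⁻¹ = (m * b * m⁻¹)⁻¹ * (m * b' * m⁻¹) := by group
        _ = _ := by rw [e1, e2]; group
    exact mul_inv_eq_iff_eq_mul.mp e3

theorem zmod3_cases : ∀ a : ZMod 3, a = 0 ∨ a = 1 ∨ a = -1 := by decide

/-- Conjugation on the endomorphisms. -/
noncomputable def conjL (m : D) : Module.End (ZMod 3) (Module.End (ZMod 3) E) :=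
  (LinearMap.mulLeft (ZMod 3) (lin D E m)).comp (LinearMap.mulRight (ZMod 3) (lin D E m⁻¹))

theorem conjL_apply (m : D) (X : Module.End (ZMod 3) E) :
    conjL m X = lin D E m * X * lin D E m⁻¹ := by
  simp [conjL, mul_assoc]

theorem indep_cosets [Nontrivial E] (M B : Subgroup D) (A : Subgroup D) [A.Normal]
    (hBM : ∀ b ∈ B, ∀ m ∈ M, m * b * m⁻¹ * b⁻¹ ∈ sgn D E)
    (hinj : ∀ b ∈ B, (∀ m ∈ M, Commute m b) → b ∈ A) :
    ∃ r : B.map (QuotientGroup.mk' A) → D, (∀ q, r q ∈ B ∧ QuotientGroup.mk' A (r q) = (q : D ⧸ A)) ∧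
      LinearIndependent (ZMod 3) fun q => lin D E (r q) := by
  have h : ∀ q : B.map (QuotientGroup.mk' A), ∃ b, b ∈ B ∧ QuotientGroup.mk' A b = (q : D ⧸ A) :=
    fun q => Subgroup.mem_map.mp q.2
  choose r hr using h
  refine ⟨r, hr, indep_of_eigen (fun m : M => conjL (m : D)) _ (fun q (m : M) => sign (r q) (m : D)) ?_ ?_ ?_⟩
  · intro q h0
    obtain ⟨e, he⟩ := exists_ne (0 : E)
    have h1 : lin D E (r q)⁻¹ * lin D E (r q) = 1 := by rw [← map_mul, inv_mul_cancel, map_one]
    rw [h0, mul_zero] at h1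
    exact he (LinearMap.congr_fun h1 e).symm
  · intro q m
    rw [conjL_apply]
    exact lin_conj (hBM _ (hr q).1 _ m.2)
  · intro q q' hqq
    have hmem := hinj _ (B.mul_mem (B.inv_mem (hr q).1) (hr q').1) fun m hm =>
      commute_of_sign_eq (hBM _ (hr q).1 _ hm) (hBM _ (hr q').1 _ hm) (congrFun hqq ⟨m, hm⟩)
    refine Subtype.ext ?_
    rw [← (hr q).2, ← (hr q').2]
    exact QuotientGroup.eq.mpr hmem

variable (D E) in
/-- The standing hypotheses. -/
structure Ctx : Prop where
  hE : ∀ e : E, (3 : ℕ) • e = 0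
  hcard : Nat.card E = 81
  hdvd : Nat.card D ∣ 2560
  h5 : 5 ∣ Nat.card D
  hnn : ∀ x : D, orderOf x = 5 → ¬ (zpowers x).Normal

variable [Finite D] [Finite E]

namespace Ctx

variable (C : Ctx D E)
include C

theorem nontrivial : Nontrivial E := Finite.one_lt_card_iff_nontrivial.mp (by rw [C.hcard]; norm_num)

theorem finrank : Module.finrank (ZMod 3) E = 4 :=
  haveI : Fact (Nat.Prime 3) := ⟨Nat.prime_three⟩
  KpRegular.finrank_eq (p := 3) (C.hcard.trans (by norm_num))

theorem irr {x : D} (hx : orderOf x = 5) (W : AddSubgroup E) (hW : ∀ w ∈ W, x • w ∈ W) : W = ⊥ ∨ W = ⊤ := by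
  haveI : Fact (Nat.Prime 3) := ⟨Nat.prime_three⟩
  haveI : Fact (Nat.Prime 5) := ⟨by norm_num⟩
  exact KpRegular.eq_bot_or_top_of_invariant C.hE (n := 4) (by norm_num) (C.hcard.trans (by norm_num))
    (by norm_num) (fun k h1 h2 => by interval_cases k <;> norm_num) hx W hW

theorem exists_x : ∃ x : D, orderOf x = 5 :=
  haveI : Fact (Nat.Prime 5) := ⟨by norm_num⟩
  exists_prime_orderOf_dvd_card' 5 C.h5

theorem comm_cent {x : D} (hx : orderOf x = 5) {a b : D} (ha : Commute a x) (hb : Commute b x) : Commute a b := by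
  haveI := C.nontrivial
  have hc := OddTransitive.isCyclic_centralizer (C.irr hx)
  exact congrArg Subtype.val (hc.commGroup.mul_comm ⟨a, mem_centralizer_singleton_iff.mpr ha.eq⟩
    ⟨b, mem_centralizer_singleton_iff.mpr hb.eq⟩)

theorem zpowers_eq {x y : D} (hx : orderOf x = 5) (hy : orderOf y = 5) (h : Commute y x) :
    zpowers y = zpowers x := by
  haveI := C.nontrivial
  have hc := OddTransitive.isCyclic_centralizer (C.irr hx)
  have h1 := SelfCentNoncyclic.zpowers_eq_of_orderOf_eq
    (a := (⟨y, mem_centralizer_singleton_iff.mpr h.eq⟩ : centralizer ({x} : Set D)))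
    (b := ⟨x, mem_centralizer_singleton_iff.mpr rfl⟩) (by rw [Subgroup.orderOf_mk, Subgroup.orderOf_mk, hx, hy])
  have h2 := congrArg (Subgroup.map (centralizer ({x} : Set D)).subtype) h1
  rwa [MonoidHom.map_zpowers, MonoidHom.map_zpowers] at h2

theorem pow_two_of_five {g : D} (h : ¬ 5 ∣ orderOf g) : g ^ 2 ^ 9 = 1 := by
  refine orderOf_dvd_iff_pow_eq_one.mp ?_
  have h1 : orderOf g ∣ 2 ^ 9 * 5 := (orderOf_dvd_natCard g).trans C.hdvd
  exact Nat.Coprime.dvd_of_dvd_mul_right
    (((Nat.prime_five).coprime_iff_not_dvd.mpr h).symm) h1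

theorem isPGroup {H : Subgroup D} (h : ¬ 5 ∣ Nat.card H) : IsPGroup 2 H := by
  haveI : Fact (Nat.Prime 2) := ⟨Nat.prime_two⟩
  have h1 : Nat.card H ∣ 2 ^ 9 * 5 := (Subgroup.card_subgroup_dvd_card H).trans C.hdvd
  obtain ⟨k, -, hk⟩ := (Nat.dvd_prime_pow Nat.prime_two).mp
    (Nat.Coprime.dvd_of_dvd_mul_right (((Nat.prime_five).coprime_iff_not_dvd.mpr h).symm) h1)
  exact IsPGroup.of_card hk

theorem exists_eigen (U : Subgroup D) (hab : ∀ a ∈ U, ∀ b ∈ U, Commute a b) (hsq : ∀ a ∈ U, a * a = 1) :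
    ∃ v : E, v ≠ 0 ∧ ∀ u ∈ U, u • v = v ∨ u • v = -v := by
  classical
  haveI := C.nontrivial
  suffices h : ∀ s : Finset U, ∃ v : E, v ≠ 0 ∧ ∀ u ∈ s, (u : D) • v = v ∨ (u : D) • v = -v by
    haveI := Fintype.ofFinite U
    obtain ⟨v, hv, h'⟩ := h Finset.univ
    exact ⟨v, hv, fun u hu => h' ⟨u, hu⟩ (Finset.mem_univ _)⟩
  intro s
  induction s using Finset.induction with
  | empty => obtain ⟨v, hv⟩ := exists_ne (0 : E); exact ⟨v, hv, by simp⟩
  | @insert a s ha ih =>
    obtain ⟨v, hv, h⟩ := ih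
    by_cases h0 : v + (a : D) • v = 0
    · refine ⟨v, hv, fun u hu => ?_⟩
      rcases Finset.mem_insert.mp hu with rfl | hu
      · exact Or.inr (eq_neg_of_add_eq_zero_right h0)
      · exact h u hu
    · refine ⟨v + (a : D) • v, h0, fun u hu => ?_⟩
      rcases Finset.mem_insert.mp hu with rfl | hu
      · left; rw [smul_add, smul_smul, hsq _ u.2, one_smul, add_comm]
      · have hc : (u : D) • (a : D) • v = (a : D) • (u : D) • v := by
          rw [smul_smul, smul_smul, (hab _ u.2 _ a.2).eq]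
        rcases h u hu with h' | h'
        · left; rw [smul_add, hc, h']
        · right; rw [smul_add, hc, h', smul_neg, neg_add]

/-- An involution in an abelian normal subgroup is a sign. -/
theorem invol_sgn (U : Subgroup D) [U.Normal] (hab : ∀ a ∈ U, ∀ b ∈ U, Commute a b) {u : D} (hu : u ∈ U)
    (hu2 : u * u = 1) : u ∈ sgn D E := by
  classical
  haveI : Fact (Nat.Prime 3) := ⟨Nat.prime_three⟩
  haveI := C.nontrivial
  obtain ⟨x, hx⟩ := C.exists_x
  let U1 : Subgroup D :=
    { carrier := {a | a ∈ U ∧ a * a = 1}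
      one_mem' := ⟨U.one_mem, one_mul 1⟩
      mul_mem' := fun {a b} ha hb => ⟨U.mul_mem ha.1 hb.1, by
        rw [(hab b hb.1 a ha.1).mul_mul_mul_comm, ha.2, hb.2, one_mul]⟩
      inv_mem' := fun {a} ha => ⟨U.inv_mem ha.1, by rw [← mul_inv_rev, ha.2, inv_one]⟩ }
  have hconj : ∀ g : D, ∀ a ∈ U1, g⁻¹ * a * g ∈ U1 := fun g a ha =>
    ⟨by simpa using ‹U.Normal›.conj_mem a ha.1 g⁻¹, by
      calc g⁻¹ * a * g * (g⁻¹ * a * g) = g⁻¹ * (a * a) * g := by group
        _ = 1 := by rw [ha.2]; group⟩
  obtain ⟨v, hv, hsigns⟩ := C.exists_eigen U1 (fun a ha b hb => hab a ha.1 b hb.1) (fun a ha => ha.2)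
  let χ : D → ZMod 3 := fun a => if a • v = v then 1 else -1
  have hχ : ∀ a ∈ U1, lin D E a v = χ a • v := by
    intro a ha
    show a • v = χ a • v
    simp only [χ]
    split_ifs with h
    · rw [h, one_smul]
    · rw [(hsigns a ha).resolve_left h, neg_smul, one_smul]
  have hmove : ∀ (g : D), ∀ a ∈ U1, lin D E a (lin D E g v) = χ (g⁻¹ * a * g) • lin D E g v := by
    intro g a ha
    rw [← map_smul, ← hχ _ (hconj g a ha), ← Module.End.mul_apply, ← Module.End.mul_apply, ← map_mul, ← map_mul]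
    congr 2; group
  by_cases hinj : Function.Injective fun (j : Fin 5) (a : U1) => χ ((x ^ (j : ℕ))⁻¹ * (a : D) * x ^ (j : ℕ))
  · exfalso
    have hli : LinearIndependent (ZMod 3) fun j : Fin 5 => lin D E (x ^ (j : ℕ)) v :=
      indep_of_eigen (fun a : U1 => lin D E (a : D)) _ _
        (fun j h0 => hv (smul_left_cancel (x ^ (j : ℕ)) ((h0 : x ^ (j : ℕ) • v = 0).trans (smul_zero _).symm)))
        (fun j a => hmove _ _ a.2) hinj
    have h4 := hli.fintype_card_le_finrank
    rw [C.finrank, Fintype.card_fin] at h4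
    omega
  · simp only [Function.Injective, not_forall] at hinj
    obtain ⟨i, j, hij, hne⟩ := hinj
    set y := (x ^ (i : ℕ))⁻¹ * x ^ (j : ℕ) with hy
    have hy1 : y ≠ 1 := fun h => hne (Fin.ext (pow_injOn_Iio_orderOf
      (by rw [Set.mem_Iio, hx]; exact i.2) (by rw [Set.mem_Iio, hx]; exact j.2) (inv_mul_eq_one.mp h)))
    have hinv : ∀ a ∈ U1, χ (y⁻¹ * a * y) = χ a := by
      intro a ha
      have h := congrFun hij ⟨_, hconj (x ^ (i : ℕ))⁻¹ a ha⟩
      simp only at h
      rw [show y⁻¹ * a * y = (x ^ (j : ℕ))⁻¹ * ((x ^ (i : ℕ))⁻¹⁻¹ * a * (x ^ (i : ℕ))⁻¹) * x ^ (j : ℕ) by rw [hy]; group,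
        ← h]
      congr 1; group
    obtain ⟨l, hl⟩ : x ∈ Submonoid.powers y := by
      haveI : Fact (Nat.Prime 5) := ⟨by norm_num⟩
      rw [mem_powers_iff_mem_zpowers]
      have hy5 : orderOf y = 5 := orderOf_eq_prime (by
        have hc : Commute (x ^ (i : ℕ))⁻¹ (x ^ (j : ℕ)) := ((Commute.refl x).pow_pow _ _).inv_left
        have h5 : ∀ m : ℕ, (x ^ m) ^ 5 = 1 := fun m => by
          rw [← pow_mul, mul_comm, pow_mul, ← hx, pow_orderOf_eq_one, one_pow]
        rw [hy, hc.mul_pow, inv_pow, h5, h5, inv_one, one_mul]) hy1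
      rw [C.zpowers_eq hx hy5 (Commute.mul_left ((Commute.refl x).pow_left _).inv_left ((Commute.refl x).pow_left _))]
      exact mem_zpowers x
    have hinvx : ∀ a ∈ U1, χ (x⁻¹ * a * x) = χ a := by
      rw [← (hl : y ^ l = x)]
      clear hl
      induction l with
      | zero => simp
      | succ l ih =>
        intro a ha
        rw [show (y ^ (l + 1))⁻¹ * a * y ^ (l + 1) = y⁻¹ * ((y ^ l)⁻¹ * a * y ^ l) * y by rw [pow_succ]; group,
          hinv _ (hconj _ a ha), ih a ha]
    let W : AddSubgroup E :=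
      { carrier := {e | ∀ a ∈ U1, lin D E a e = χ a • e}
        zero_mem' := fun a _ => by simp
        add_mem' := fun {e e'} he he' a ha => by rw [map_add, he a ha, he' a ha, smul_add]
        neg_mem' := fun {e} he a ha => by rw [map_neg, he a ha, smul_neg] }
    have hW : W = ⊤ := by
      refine (C.irr hx W fun e he a ha => ?_).resolve_left fun h0 => hv ?_
      · show lin D E a (lin D E x e) = χ a • lin D E x e
        rw [← hinvx a ha, ← map_smul, ← he _ (hconj x a ha), ← Module.End.mul_apply, ← Module.End.mul_apply,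
          ← map_mul, ← map_mul]
        congr 2; group
      · have : v ∈ W := hχ
        rw [h0] at this
        exact AddSubgroup.mem_bot.mp this
    have hu1 : u ∈ U1 := ⟨hu, hu2⟩
    have hall : lin D E u = χ u • 1 := LinearMap.ext fun e => (hW ▸ AddSubgroup.mem_top e : e ∈ W) u hu1
    simp only [χ] at hall
    split_ifs at hall with h
    · left; rw [hall, one_smul]
    · right; rw [hall, neg_smul, one_smul]

/-- An element of order five centralises every abelian normal two-subgroup. -/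
theorem commute_abelian {x : D} (hx : orderOf x = 5) (A : Subgroup D) [hA : A.Normal] (h2 : IsPGroup 2 A)
    (hab : ∀ a ∈ A, ∀ b ∈ A, Commute a b) : ∀ a ∈ A, Commute x a := by
  have key : ∀ k, ∀ a ∈ A, a ^ 2 ^ k = 1 → Commute x a := by
    intro k
    induction k with
    | zero => intro a _ h; rw [pow_zero, pow_one] at h; subst h; exact Commute.one_right x
    | succ k ih =>
      intro a ha h
      have hsq : Commute x (a * a) := ih _ (A.mul_mem ha ha) (by rw [← pow_two, ← pow_mul, ← pow_succ']; exact h)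
      have hxa := hA.conj_mem a ha x
      have hc2 : x * a * x⁻¹ * a⁻¹ * (x * a * x⁻¹ * a⁻¹) = 1 := by
        calc x * a * x⁻¹ * a⁻¹ * (x * a * x⁻¹ * a⁻¹) = x * a * x⁻¹ * (x * a * x⁻¹) * (a⁻¹ * a⁻¹) :=
              (hab _ (A.inv_mem ha) _ hxa).mul_mul_mul_comm _ _
          _ = x * (a * a) * x⁻¹ * (a * a)⁻¹ := by group
          _ = 1 := by rw [hsq.eq]; group
      have hs := C.invol_sgn A hab (A.mul_mem hxa (A.inv_mem ha)) hc2
      exact commute_of_comm (hx ▸ pow_orderOf_eq_one x) (sgn_comm hs x).symm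
        (k := 1) (by rw [pow_one, pow_two]; exact hc2)
  intro a ha
  obtain ⟨k, hk⟩ := h2 ⟨a, ha⟩
  exact key k a ha (congrArg Subtype.val hk)

theorem solvable : Group.IsSolvable D := by
  obtain ⟨a, b, -, -, h⟩ : ∃ a b : ℕ, a ≤ 9 ∧ b ≤ 1 ∧ Nat.card D = 2 ^ a * 5 ^ b := by
    obtain ⟨u, w, hu, hw, h⟩ := Nat.dvd_mul.mp (show Nat.card D ∣ 2 ^ 9 * 5 ^ 1 from C.hdvd)
    obtain ⟨a, ha, rfl⟩ := (Nat.dvd_prime_pow Nat.prime_two).mp hu
    obtain ⟨b, hb, rfl⟩ := (Nat.dvd_prime_pow Nat.prime_five).mp hw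
    exact ⟨a, b, ha, hb, h.symm⟩
  exact Char.isSolvable_of_card_eq_prime_pow_mul Nat.prime_two Nat.prime_five h

theorem card_sylow (P : Sylow 5 D) : Nat.card P = 5 := by
  haveI : Fact (Nat.Prime 5) := ⟨by norm_num⟩
  obtain ⟨k, hk⟩ := IsPGroup.iff_card.mp P.2
  have h1 : 5 ^ k ∣ 2560 := hk ▸ (Subgroup.card_subgroup_dvd_card _).trans C.hdvd
  have h2 : 5 ∣ 5 ^ k := hk ▸ P.dvd_card_of_dvd_card C.h5
  have h3 : k ≤ 1 := by
    by_contra h
    exact absurd ((pow_dvd_pow 5 (by omega : 2 ≤ k)).trans h1) (by norm_num)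
  rw [hk]
  interval_cases k
  · norm_num at h2
  · rfl

/-- The largest normal two-subgroup is centralised by no element of order five. -/
theorem not_centralizes {x : D} (hx : orderOf x = 5) (N : Subgroup D) [N.Normal] (h2 : IsPGroup 2 N)
    (hmax : ∀ K : Subgroup D, K.Normal → IsPGroup 2 K → K ≤ N) : ¬ ∀ n ∈ N, Commute x n := by
  haveI : Fact (Nat.Prime 5) := ⟨by norm_num⟩
  haveI := C.solvable
  intro hcN
  set R := normalClosure ({x} : Set D) with hR
  have hxR : x ∈ R := subset_normalClosure rfl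
  have hRN : R ≤ centralizer (N : Set D) := by
    rw [hR]
    refine normalClosure_le_normal (Set.singleton_subset_iff.mpr ?_)
    exact mem_centralizer_iff.mpr fun n hn => ((hcN n hn).eq).symm
  have hlt : ⁅R, R⁆ < R := Group.IsSolvable.commutator_lt_of_ne_bot fun h => by
    have := Subgroup.mem_bot.mp (h ▸ hxR)
    rw [this, orderOf_one] at hx
    omega
  have h5R : ¬ 5 ∣ Nat.card ↥⁅R, R⁆ := by
    intro h
    obtain ⟨y, hy⟩ := exists_prime_orderOf_dvd_card' 5 h
    rw [← Subgroup.orderOf_coe] at hy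
    have hP : ∀ {g : D}, orderOf g = 5 → ∃ P : Sylow 5 D, (P : Subgroup D) = zpowers g := fun {g} hg => by
      obtain ⟨P, hP⟩ := (IsPGroup.of_card (n := 1) (by rw [Nat.card_zpowers, hg, pow_one]) :
        IsPGroup 5 (zpowers g)).exists_le_sylow
      exact ⟨P, (eq_of_le_of_card_ge hP (by rw [C.card_sylow, Nat.card_zpowers, hg])).symm⟩
    obtain ⟨P, hPx⟩ := hP hx
    obtain ⟨Q, hQy⟩ := hP hy
    obtain ⟨g, hg⟩ := MulAction.exists_smul_eq D Q P
    have hxm : x ∈ MulAut.conj g • (zpowers (y : D)) := by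
      rw [← hQy, ← Sylow.coe_subgroup_smul, hg, hPx]; exact mem_zpowers x
    have hle : MulAut.conj g • zpowers (y : D) ≤ ⁅R, R⁆ := by
      rintro _ ⟨w, hw, rfl⟩
      exact (inferInstance : (⁅R, R⁆).Normal).conj_mem w (zpowers_le.mpr y.2 hw) g
    refine hlt.not_ge ?_
    conv_lhs => rw [hR]
    exact normalClosure_le_normal (Set.singleton_subset_iff.mpr (hle hxm))
  have hR'N : ⁅R, R⁆ ≤ N := hmax _ inferInstance (C.isPGroup h5R)
  have hcen : ∀ r ∈ R, Commute x r := by
    intro r hr
    set c := r * x * r⁻¹ * x⁻¹ with hc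
    have hcR : c ∈ N := hR'N (by rw [hc, ← commutatorElement_def]; exact commutator_mem_commutator hr hxR)
    have hcx : Commute c x := (hcN c hcR).symm
    have h5 : c ^ 5 = 1 := by
      have h1 : (r * x * r⁻¹) ^ 5 = 1 := by rw [conj_pow, ← hx, pow_orderOf_eq_one]; group
      rw [show r * x * r⁻¹ = c * x by rw [hc]; group, hcx.mul_pow, ← hx, pow_orderOf_eq_one, mul_one, hx] at h1
      exact h1
    obtain ⟨k, hk⟩ := h2 ⟨c, hcR⟩
    have hc1 : c = 1 :=
      orderOf_eq_one_iff.mp (Nat.eq_one_of_dvd_coprimes (Nat.Coprime.pow_right k (by norm_num : Nat.Coprime 5 2))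
        (orderOf_dvd_of_pow_eq_one h5) (orderOf_dvd_of_pow_eq_one (congrArg Subtype.val hk)))
    exact (mul_inv_eq_iff_eq_mul.mp (mul_inv_eq_one.mp (hc ▸ hc1) : r * x * r⁻¹ = x)).symm
  refine C.hnn x hx ⟨fun y hy g => ?_⟩
  have hgx : g * x * g⁻¹ ∈ zpowers x := by
    rw [← C.zpowers_eq hx ((MulAut.conj g).orderOf_eq x |>.trans hx)
      (hcen _ ((inferInstance : R.Normal).conj_mem x hxR g)).symm]
    exact mem_zpowers _
  obtain ⟨j, rfl⟩ := hy
  show g * x ^ j * g⁻¹ ∈ zpowers x
  rw [← conj_zpow]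
  exact Subgroup.zpow_mem _ hgx j

/-- An endomorphism commuting with a spanning family acts as a sign. -/
theorem mem_sgn_of_commute {ι : Type*} {w : ι → Module.End (ZMod 3) E} (hw : Submodule.span (ZMod 3) (Set.range w) = ⊤)
    {g : D} (h : ∀ i, Commute (lin D E g) (w i)) : g ∈ sgn D E := by
  haveI : Fact (Nat.Prime 3) := ⟨Nat.prime_three⟩
  haveI := C.nontrivial
  have hall : ∀ X, lin D E g * X = X * lin D E g := by
    intro X
    have hX : X ∈ Submodule.span (ZMod 3) (Set.range w) := hw ▸ Submodule.mem_top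
    induction hX using Submodule.span_induction with
    | mem X hX => obtain ⟨i, rfl⟩ := hX; exact h i
    | zero => simp
    | add X Y _ _ hX hY => rw [mul_add, add_mul, hX, hY]
    | smul a X _ hX => rw [mul_smul_comm, smul_mul_assoc, hX]
  obtain ⟨v, hv⟩ := exists_ne (0 : E)
  obtain ⟨φ, hφ⟩ := LinearMap.exists_leftInverse_of_injective (LinearMap.toSpanSingleton (ZMod 3) E v)
    (LinearMap.ker_toSpanSingleton (ZMod 3) hv)
  have hφv : φ v = 1 := by simpa using LinearMap.congr_fun hφ 1
  have hscal : ∀ e, lin D E g e = φ (lin D E g v) • e := by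
    intro e
    have h1 := LinearMap.congr_fun (hall (φ.smulRight e)) v
    simp only [Module.End.mul_apply, LinearMap.smulRight_apply, hφv, one_smul] at h1
    exact h1
  rcases zmod3_cases (φ (lin D E g v)) with hr | hr | hr
  · exfalso
    refine hv (smul_left_cancel g ?_)
    rw [smul_zero]
    exact (hscal v).trans (by rw [hr, zero_smul])
  · exact Or.inl (LinearMap.ext fun e => by rw [hscal, hr, one_smul]; rfl)
  · exact Or.inr (LinearMap.ext fun e => by rw [hscal, hr, neg_smul, one_smul]; rfl)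

theorem finrank_end : Module.finrank (ZMod 3) (Module.End (ZMod 3) E) = 16 := by
  haveI : Fact (Nat.Prime 3) := ⟨Nat.prime_three⟩
  haveI : Module.Finite (ZMod 3) E := Module.Finite.of_finite
  show Module.finrank (ZMod 3) (E →ₗ[ZMod 3] E) = 16
  rw [Module.finrank_linearMap, C.finrank]

/-- The structure of the largest normal two-subgroup. -/
theorem core : ∃ N : Subgroup D, N.Normal ∧ IsPGroup 2 N ∧ sgn D E ≤ N ∧ Nat.card (sgn D E) = 2 ∧
    Nat.card N = 32 ∧ (∀ K : Subgroup D, K.Normal → IsPGroup 2 K → K ≤ N) ∧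
    (∀ g : D, (∀ n ∈ N, Commute g n) → g ∈ sgn D E) ∧
    ∀ d : D, (∀ n ∈ N, n * d * n⁻¹ * d⁻¹ ∈ sgn D E) → d ∈ N := by
  classical
  haveI : Fact (Nat.Prime 2) := ⟨Nat.prime_two⟩
  haveI : Fact (Nat.Prime 3) := ⟨Nat.prime_three⟩
  haveI : Module.Finite (ZMod 3) E := Module.Finite.of_finite
  haveI := C.nontrivial
  obtain ⟨x, hx⟩ := C.exists_x
  have hx5 : x ^ 5 = 1 := hx ▸ pow_orderOf_eq_one x
  obtain ⟨P⟩ : Nonempty (Sylow 2 D) := inferInstance
  set N := (P : Subgroup D).normalCore with hN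
  have hN2 : IsPGroup 2 N := P.2.to_le (normalCore_le _)
  have hmax : ∀ K : Subgroup D, K.Normal → IsPGroup 2 K → K ≤ N := by
    intro K hK hK2
    obtain ⟨Q, hQ⟩ := hK2.exists_le_sylow
    obtain ⟨g, hg⟩ := MulAction.exists_smul_eq D Q P
    refine normal_le_normalCore.mpr fun k hk => ?_
    rw [← hg, Sylow.coe_subgroup_smul]
    exact ⟨g⁻¹ * k * g, hQ (by simpa using hK.conj_mem k hk g⁻¹), show g * (g⁻¹ * k * g) * g⁻¹ = k by group⟩
  -- a largest abelian normal two-subgroup
  haveI : Nonempty {A : Subgroup D // A.Normal ∧ IsPGroup 2 A ∧ ∀ a ∈ A, ∀ b ∈ A, Commute a b} :=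
    ⟨⟨⊥, inferInstance, IsPGroup.of_bot, fun a ha b _ => by rw [mem_bot.mp ha]; exact Commute.one_left b⟩⟩
  obtain ⟨⟨A, hAn, hA2, hAab⟩, hAmax⟩ :=
    Finite.exists_max fun A : {A : Subgroup D // A.Normal ∧ IsPGroup 2 A ∧ ∀ a ∈ A, ∀ b ∈ A, Commute a b} =>
      Nat.card A.1
  have hmaxA : ∀ B : Subgroup D, B.Normal → IsPGroup 2 B → (∀ a ∈ B, ∀ b ∈ B, Commute a b) → A ≤ B → A = B :=
    fun B h1 h2 h3 h4 => eq_of_le_of_card_ge h4 (hAmax ⟨B, h1, h2, h3⟩)
  have hAx := C.commute_abelian hx A hA2 hAab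
  set M := N ⊓ centralizer (A : Set D) with hM
  have hMA : ∀ m ∈ M, ∀ a ∈ A, Commute m a := fun m hm a ha => (mem_centralizer_iff.mp hm.2 a ha).symm
  have hAM : A ≤ M := le_inf (hmax A hAn hA2) fun a ha => mem_centralizer_iff.mpr fun b hb => (hAab b hb a ha).eq
  have hM2 : IsPGroup 2 M := hN2.to_le inf_le_left
  haveI hMn : M.Normal := inferInstance
  have hMx : ¬ ∀ m ∈ M, Commute x m := by
    intro h
    refine C.not_centralizes hx N hN2 hmax fun n hn => ?_
    have hcN : x * n * x⁻¹ * n⁻¹ ∈ N :=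
      N.mul_mem ((inferInstance : N.Normal).conj_mem n hn x) (N.inv_mem hn)
    have hc : x * n * x⁻¹ * n⁻¹ ∈ M := ⟨hcN, mem_centralizer_iff.mpr fun a ha => by
      have h1 : n⁻¹ * a * n ∈ A := by simpa using hAn.conj_mem a ha n⁻¹
      have e1 : x * (n⁻¹ * a * n) * x⁻¹ = n⁻¹ * a * n := by rw [(hAx _ h1).eq]; group
      have e2 : x⁻¹ * a * x = a := by rw [mul_assoc, ← (hAx a ha).eq]; group
      have e3 : (x * n * x⁻¹ * n⁻¹)⁻¹ * a * (x * n * x⁻¹ * n⁻¹) = a := by
        calc _ = n * (x * (n⁻¹ * (x⁻¹ * a * x) * n) * x⁻¹) * n⁻¹ := by group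
          _ = a := by rw [e2, e1]; group
      calc a * (x * n * x⁻¹ * n⁻¹)
          = (x * n * x⁻¹ * n⁻¹) * ((x * n * x⁻¹ * n⁻¹)⁻¹ * a * (x * n * x⁻¹ * n⁻¹)) := by group
        _ = (x * n * x⁻¹ * n⁻¹) * a := by rw [e3]⟩
    obtain ⟨k, hk⟩ := hN2 ⟨_, hcN⟩
    exact commute_of_comm hx5 (h _ hc) (congrArg Subtype.val hk)
  have hMab : ¬ ∀ a ∈ M, ∀ b ∈ M, Commute a b := fun h => hMx (C.commute_abelian hx M hM2 h)
  set Z := M ⊓ centralizer (M : Set D) with hZ
  haveI hZn : Z.Normal := inferInstance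
  have hAZ : A = Z := hmaxA Z hZn (hM2.to_le inf_le_left)
    (fun a ha b hb => mem_centralizer_iff.mp hb.2 a ha.1)
    (le_inf hAM fun a ha => mem_centralizer_iff.mpr fun m hm => (hMA m hm a ha).eq)
  -- elements commuting with M up to signs
  let B : Subgroup D :=
    { carrier := {b | b ∈ M ∧ ∀ m ∈ M, m * b * m⁻¹ * b⁻¹ ∈ sgn D E}
      one_mem' := ⟨M.one_mem, fun m _ => by simp [(sgn D E).one_mem]⟩
      mul_mem' := fun {b c} hb hc => ⟨M.mul_mem hb.1 hc.1, fun m hm => by
        have h1 := sgn_comm (hc.2 m hm) b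
        rw [show m * (b * c) * m⁻¹ * (b * c)⁻¹ = m * b * m⁻¹ * b⁻¹ * (b * (m * c * m⁻¹ * c⁻¹) * b⁻¹) by group,
          ← h1.eq, mul_inv_cancel_right]
        exact (sgn D E).mul_mem (hb.2 m hm) (hc.2 m hm)⟩
      inv_mem' := fun {b} hb => ⟨M.inv_mem hb.1, fun m hm => by
        rw [show m * b⁻¹ * m⁻¹ * b⁻¹⁻¹ = b⁻¹ * (m * b * m⁻¹ * b⁻¹)⁻¹ * b by group,
          mul_assoc, (sgn_comm ((sgn D E).inv_mem (hb.2 m hm)) b).eq, inv_mul_cancel_left]
        exact (sgn D E).inv_mem (hb.2 m hm)⟩ }
  have hBM : B ≤ M := fun b hb => hb.1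
  haveI hBn : B.Normal := ⟨fun b hb g => ⟨hMn.conj_mem b hb.1 g, fun m hm => by
    have h1 := hb.2 (g⁻¹ * m * g) (by simpa using hMn.conj_mem m hm g⁻¹)
    rw [show m * (g * b * g⁻¹) * m⁻¹ * (g * b * g⁻¹)⁻¹ =
      g * (g⁻¹ * m * g * b * (g⁻¹ * m * g)⁻¹ * b⁻¹) * g⁻¹ by group]
    exact (inferInstance : (sgn D E).Normal).conj_mem _ h1 g⟩⟩
  have hAB : A ≤ B := fun a ha => ⟨hAM ha, fun m hm => by
    rw [(hMA m hm a ha).eq]; simp [(sgn D E).one_mem]⟩
  obtain ⟨b₀, hb₀, hb₀A⟩ : ∃ b ∈ B, b ∉ A := by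
    haveI : Nontrivial (M ⧸ center M) := QuotientGroup.nontrivial_iff.mpr fun h => hMab fun a ha b hb => by
      have hbc : (⟨b, hb⟩ : M) ∈ center M := by rw [h]; exact mem_top _
      exact congrArg Subtype.val (mem_center_iff.mp hbc ⟨a, ha⟩)
    have hq := hM2.to_quotient (center M)
    haveI := hq.center_nontrivial
    obtain ⟨z, hz⟩ := exists_prime_orderOf_dvd_card' (G := center (M ⧸ center M)) 2
      ((hq.to_subgroup (center (M ⧸ center M))).card_eq_or_dvd.resolve_left Finite.one_lt_card.ne')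
    obtain ⟨b, hb⟩ := QuotientGroup.mk_surjective (z : M ⧸ center M)
    have hcm : ∀ m : M, m * b * m⁻¹ * b⁻¹ ∈ center M := fun m => by
      rw [← QuotientGroup.eq_one_iff]
      simp only [QuotientGroup.mk_mul, QuotientGroup.mk_inv, hb]
      rw [mem_center_iff.mp z.2 m]; group
    have hbb : b * b ∈ center M := by
      rw [← QuotientGroup.eq_one_iff, QuotientGroup.mk_mul, hb]
      have := pow_orderOf_eq_one z
      rw [hz, pow_two] at this
      exact congrArg Subtype.val this
    have hcenA : ∀ c : M, c ∈ center M → (c : D) ∈ A := fun c hc => by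
      rw [hAZ]
      exact ⟨c.2, mem_centralizer_iff.mpr fun m hm => congrArg Subtype.val (mem_center_iff.mp hc ⟨m, hm⟩)⟩
    refine ⟨b, ⟨b.2, fun m hm => ?_⟩, fun hbA => ?_⟩
    · refine C.invol_sgn A hAab (hcenA _ (hcm ⟨m, hm⟩)) ?_
      set c : M := ⟨m, hm⟩ * b * (⟨m, hm⟩ : M)⁻¹ * b⁻¹ with hc
      have hcb : Commute c b := ((mem_center_iff.mp (hcm ⟨m, hm⟩)) b).symm
      have h1 : c * b * (c * b) = b * b := by
        rw [show c * b = (⟨m, hm⟩ : M) * b * (⟨m, hm⟩ : M)⁻¹ by rw [hc]; group,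
          show (⟨m, hm⟩ : M) * b * (⟨m, hm⟩ : M)⁻¹ * ((⟨m, hm⟩ : M) * b * (⟨m, hm⟩ : M)⁻¹) =
            (⟨m, hm⟩ : M) * (b * b) * (⟨m, hm⟩ : M)⁻¹ by group, mem_center_iff.mp hbb ⟨m, hm⟩]
        group
      rw [hcb.symm.mul_mul_mul_comm] at h1
      exact congrArg Subtype.val (mul_eq_right.mp h1 : c * c = 1)
    · have hbc : b ∈ center M := mem_center_iff.mpr fun m => Subtype.ext (hMA m m.2 _ hbA).eq
      have h1 : (z : M ⧸ center M) = 1 := by rw [← hb, QuotientGroup.eq_one_iff]; exact hbc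
      rw [← Subgroup.orderOf_coe, h1, orderOf_one] at hz
      omega
  have hBx : ¬ ∀ b ∈ B, Commute x b := fun h => hb₀A (by
    rw [hmaxA B hBn (hM2.to_le hBM) (fun a ha b hb => C.comm_cent hx (h a ha).symm (h b hb).symm) hAB]
    exact hb₀)
  -- sixteen cosets, spanning the endomorphisms
  obtain ⟨r, hr, hli⟩ := indep_cosets (E := E) M B A (fun b hb m hm => hb.2 m hm)
    (fun b hb h => by rw [hAZ]; exact ⟨hBM hb, mem_centralizer_iff.mpr fun m hm => (h m hm).eq⟩)
  set Q := B.map (QuotientGroup.mk' A) with hQ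
  haveI : Fintype Q := Fintype.ofFinite Q
  haveI : Q.Normal := hBn.map _ (QuotientGroup.mk'_surjective A)
  have hQle : Nat.card Q ≤ 16 := by
    have := hli.fintype_card_le_finrank
    rwa [C.finrank_end, ← Nat.card_eq_fintype_card] at this
  have hQ16 : Nat.card Q = 16 := by
    rcases five Q ((hM2.to_le hBM).map _) hQle (x := (QuotientGroup.mk' A x)) (by rw [← map_pow, hx5, map_one])
      (by rw [normalizer_eq_top]; exact mem_top _) with h | h
    · exfalso
      refine hBx fun b hb => ?_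
      have h1 := h _ (mem_map_of_mem _ hb)
      have hc : x * b * x⁻¹ * b⁻¹ ∈ A := by
        rw [← QuotientGroup.eq_one_iff]
        show QuotientGroup.mk' A (x * b * x⁻¹ * b⁻¹) = 1
        rw [map_mul, map_mul, map_mul, h1.eq, map_inv, map_inv]; group
      obtain ⟨k, hk⟩ := hA2 ⟨_, hc⟩
      exact commute_of_comm hx5 (hAx _ hc) (congrArg Subtype.val hk)
    · exact h.1
  haveI : Nonempty Q := ⟨1⟩
  have hspan := hli.span_eq_top_of_card_eq_finrank (by rw [← Nat.card_eq_fintype_card, hQ16, C.finrank_end])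
  have hCB : ∀ g : D, (∀ b ∈ B, Commute g b) → g ∈ sgn D E := fun g hg =>
    C.mem_sgn_of_commute hspan fun q => (hg _ (hr q).1).map (lin D E)
  have hAS : A = sgn D E := by
    have hle : A ≤ sgn D E := fun a ha => hCB a fun b hb => (hMA b (hBM hb) a ha).symm
    have hne : A ≠ ⊥ := by
      rw [hAZ]
      intro h
      haveI : Nontrivial M := (nontrivial_iff_ne_bot M).mpr fun h' => hMx fun m hm => by
        rw [h', mem_bot] at hm; rw [hm]; exact Commute.one_right x
      haveI := hM2.center_nontrivial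
      obtain ⟨c, hc⟩ := exists_ne (1 : center M)
      refine hc (Subtype.ext (Subtype.ext ?_))
      have hcZ : ((c : M) : D) ∈ Z :=
        ⟨(c : M).2, mem_centralizer_iff.mpr fun m hm => congrArg Subtype.val (mem_center_iff.mp c.2 ⟨m, hm⟩)⟩
      rw [h] at hcZ
      exact mem_bot.mp hcZ
    obtain ⟨a, ha, ha1⟩ := (bot_or_exists_ne_one A).resolve_left hne
    refine le_antisymm hle fun s hs => ?_
    rcases eq_or_ne s 1 with rfl | hs1
    · exact A.one_mem
    · rw [sgn_eq hs (hle ha) hs1 ha1]; exact ha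
  have hNM : N ≤ M := fun n hn =>
    ⟨hn, mem_centralizer_iff.mpr fun a ha => (sgn_comm (hAS.le ha) n).eq⟩
  have hBN : B ≤ N := fun b hb => hb.1.1
  -- self-reproduction
  obtain ⟨r', hr', hli'⟩ := indep_cosets (E := E) B B A (fun b hb m hm => hb.2 m (hBM hm))
    (fun b hb h => hAS.ge (hCB b fun b' hb' => (h b' hb').symm))
  have hspan' := hli'.span_eq_top_of_card_eq_finrank (by rw [← Nat.card_eq_fintype_card, hQ16, C.finrank_end])
  have hkey : ∀ d : D, (∀ b ∈ B, b * d * b⁻¹ * d⁻¹ ∈ sgn D E) → d ∈ B := by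
    intro d hd
    obtain ⟨g, hg⟩ := (Submodule.mem_span_range_iff_exists_fun (ZMod 3)).mp
      (hspan' ▸ Submodule.mem_top : lin D E d ∈ _)
    obtain ⟨q, hq⟩ : ∃ q, g q ≠ 0 := by
      by_contra h
      push Not at h
      obtain ⟨e, he⟩ := exists_ne (0 : E)
      simp only [h, zero_smul, Finset.sum_const_zero] at hg
      exact he (smul_left_cancel d (((LinearMap.congr_fun hg e).symm : d • e = 0).trans (smul_zero _).symm))
    have hcomm : ∀ b ∈ B, Commute ((r' q)⁻¹ * d) b := by
      intro b hb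
      have hs : ∀ q', b * r' q' * b⁻¹ * (r' q')⁻¹ ∈ sgn D E := fun q' => (hr' q').1.2 b (hBM hb)
      refine (commute_of_sign_eq (hs q) (hd b hb) ?_).symm
      have h1 : conjL b (lin D E d) = sign d b • lin D E d := by rw [conjL_apply]; exact lin_conj (hd b hb)
      rw [← hg, map_sum, Finset.smul_sum] at h1
      simp only [map_smul, conjL_apply, lin_conj (hs _), smul_smul] at h1
      have h2 := Fintype.linearIndependent_iff.mp hli' (fun q' => g q' * sign (r' q') b - sign d b * g q')
        (by simp only [sub_smul, Finset.sum_sub_distrib]; rw [h1, sub_self]) q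
      exact mul_left_cancel₀ hq (by rw [sub_eq_zero.mp h2]; ring)
    have hmem : (r' q)⁻¹ * d ∈ B := hAB (hAS.ge (hCB _ hcomm))
    simpa using B.mul_mem (hr' q).1 hmem
  have hNB : N = B := le_antisymm (fun n hn => hkey n fun b hb => by
      have h1 := hb.2 n (hNM hn)
      rw [show b * n * b⁻¹ * n⁻¹ = (n * b * n⁻¹ * b⁻¹)⁻¹ by group]
      exact (sgn D E).inv_mem h1) hBN
  have hS2 : Nat.card (sgn D E) = 2 := by
    obtain ⟨a, ha, ha1⟩ := (bot_or_exists_ne_one A).resolve_left fun h => hb₀A (by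
      have : b₀ ∈ sgn D E := hCB b₀ fun b hb => by
        have h1 := hb₀.2 b (hBM hb)
        rw [← hAS, h, mem_bot] at h1
        exact (mul_inv_eq_iff_eq_mul.mp (mul_inv_eq_one.mp h1) : b * b₀ = b₀ * b).symm
      rwa [← hAS] at this)
    rw [Nat.card_eq_two_iff' (1 : sgn D E)]
    exact ⟨⟨a, hAS.le ha⟩, fun e => ha1 (congrArg Subtype.val e),
      fun s hs => Subtype.ext (sgn_eq s.2 (hAS.le ha) (fun e => hs (Subtype.ext e)) ha1)⟩
  refine ⟨N, inferInstance, hN2, hAS ▸ hmax A hAn hA2, hS2, ?_, hmax, fun g hg => hCB g fun b hb => hg b (hBN hb),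
    fun d hd => hBN (hkey d fun b hb => hd b (hBN hb))⟩
  let f := (QuotientGroup.mk' A).comp B.subtype
  have h1 := f.ker.card_mul_index
  rw [index_ker, MonoidHom.range_comp, range_subtype, ← hQ, hQ16] at h1
  have hker : f.ker = A.subgroupOf B := by
    rw [← MonoidHom.comap_ker, QuotientGroup.ker_mk']; rfl
  rw [hker, Nat.card_congr (subgroupOfEquivOfLe hAB).toEquiv, hAS, hS2] at h1
  rw [hNB]
  omega

/-- The order is at most `640` and the classes outside the signs have at least ten elements. -/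
theorem bounds : Nat.card (sgn D E) = 2 ∧ Nat.card D ≤ 640 ∧
    ∀ g : D, g ∉ sgn D E → 10 * Nat.card (centralizer ({g} : Set D)) ≤ Nat.card D := by
  classical
  haveI : Fact (Nat.Prime 2) := ⟨Nat.prime_two⟩
  haveI : Fact (Nat.Prime 5) := ⟨by norm_num⟩
  haveI := C.nontrivial
  obtain ⟨N, hNn, hN2, hSN, hS2, hN32, hmax, hCN, hkey⟩ := C.core
  haveI := hNn
  have hQ16 : Nat.card (N.map (QuotientGroup.mk' (sgn D E))) = 16 := by
    let f := (QuotientGroup.mk' (sgn D E)).comp N.subtype
    have h1 := f.ker.card_mul_index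
    rw [index_ker, MonoidHom.range_comp, range_subtype,
      show f.ker = (sgn D E).subgroupOf N by rw [← MonoidHom.comap_ker, QuotientGroup.ker_mk']; rfl,
      Nat.card_congr (subgroupOfEquivOfLe hSN).toEquiv, hS2, hN32] at h1
    omega
  haveI : (N.map (QuotientGroup.mk' (sgn D E))).Normal := hNn.map _ (QuotientGroup.mk'_surjective _)
  have hfix : ∀ x : D, orderOf x = 5 → ∀ n ∈ N, x * n * x⁻¹ * n⁻¹ ∈ sgn D E → n ∈ sgn D E := by
    intro x hx n hn hc
    rcases five _ (hN2.map _) hQ16.le (x := (QuotientGroup.mk' (sgn D E) x))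
      (by rw [← map_pow, ← hx, pow_orderOf_eq_one, map_one]) (by rw [normalizer_eq_top]; exact mem_top _) with h | h
    · exfalso
      refine C.not_centralizes hx N hN2 hmax fun m hm => ?_
      have h1 := h _ (mem_map_of_mem _ hm)
      have hcm : x * m * x⁻¹ * m⁻¹ ∈ sgn D E := by
        rw [← QuotientGroup.eq_one_iff]
        show QuotientGroup.mk' _ (x * m * x⁻¹ * m⁻¹) = 1
        rw [map_mul, map_mul, map_mul, h1.eq, map_inv, map_inv]; group
      obtain ⟨k, hk⟩ := hN2 ⟨_, hSN hcm⟩
      exact commute_of_comm (hx ▸ pow_orderOf_eq_one x) (sgn_comm hcm x).symm (congrArg Subtype.val hk)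
    · refine (QuotientGroup.eq_one_iff n).mp (h.2 _ (mem_map_of_mem _ hn) ?_)
      show QuotientGroup.mk' _ x * QuotientGroup.mk' _ n = QuotientGroup.mk' _ n * QuotientGroup.mk' _ x
      rw [← map_mul, ← map_mul, show x * n = x * n * x⁻¹ * n⁻¹ * (n * x) by group, map_mul,
        (QuotientGroup.eq_one_iff _).mpr hc |> (fun h : QuotientGroup.mk' (sgn D E) _ = 1 => h), one_mul]
  have hinv : ∀ x : D, orderOf x = 5 → ∀ W : Subgroup D, sgn D E ≤ W → W ≤ N → x ∈ normalizer (W : Set D) →
      W = sgn D E ∨ W = N := by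
    intro x hx W hSW hWN hxW
    rcases five (W.map (QuotientGroup.mk' (sgn D E))) ((hN2.to_le hWN).map _)
      ((card_le_of_le (map_mono hWN)).trans hQ16.le) (x := (QuotientGroup.mk' (sgn D E) x))
      (by rw [← map_pow, ← hx, pow_orderOf_eq_one, map_one])
      (le_normalizer_map _ (mem_map_of_mem _ hxW)) with h | h
    · refine Or.inl (le_antisymm (fun w hw => hfix x hx w (hWN hw) ?_) hSW)
      rw [← QuotientGroup.eq_one_iff]
      show QuotientGroup.mk' _ (x * w * x⁻¹ * w⁻¹) = 1
      rw [map_mul, map_mul, map_mul, (h _ (mem_map_of_mem _ hw)).eq, map_inv, map_inv]; group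
    · refine Or.inr (le_antisymm hWN ?_)
      have h1 : W.map (QuotientGroup.mk' (sgn D E)) = N.map (QuotientGroup.mk' (sgn D E)) :=
        eq_of_le_of_card_ge (map_mono hWN) (by rw [h.1, hQ16])
      have h2 := congrArg (Subgroup.comap (QuotientGroup.mk' (sgn D E))) h1
      rw [comap_map_eq, comap_map_eq, QuotientGroup.ker_mk', sup_eq_left.mpr hSW, sup_eq_left.mpr hSN] at h2
      exact h2.ge
  have hcentx : ∀ x y : D, orderOf x = 5 → Commute y x → y ^ 2 ^ 9 = 1 → y ∈ sgn D E := by
    intro x y hx hyx hy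
    let W : Subgroup D := N ⊓ (centralizer {QuotientGroup.mk' (sgn D E) y}).comap (QuotientGroup.mk' (sgn D E))
    have hSW : sgn D E ≤ W := le_inf hSN fun s hs => mem_centralizer_singleton_iff.mpr (by
      rw [show QuotientGroup.mk' (sgn D E) s = 1 from (QuotientGroup.eq_one_iff s).mpr hs, one_mul, mul_one])
    have hxW : x ∈ normalizer (W : Set D) := by
      refine (inf_normalizer_le_normalizer_inf ⟨by rw [normalizer_eq_top]; exact mem_top _, ?_⟩)
      refine le_normalizer (mem_centralizer_singleton_iff.mpr ?_)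
      rw [← map_mul, ← map_mul, hyx.eq]
    have hyN : y ∈ N := by
      rcases hinv x hx W hSW inf_le_left hxW with h | h
      · exfalso
        have hmod := card_fix_modEq 2 (N.map (QuotientGroup.mk' (sgn D E))) (y := (QuotientGroup.mk' (sgn D E) y))
          (k := 9) (by rw [← map_pow, hy, map_one]) (by rw [normalizer_eq_top]; exact mem_top _)
        have hb : N.map (QuotientGroup.mk' (sgn D E)) ⊓ centralizer {QuotientGroup.mk' (sgn D E) y} = ⊥ := by
          rw [eq_bot_iff]
          rintro _ ⟨⟨n, hn, rfl⟩, hn2⟩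
          exact mem_bot.mpr ((QuotientGroup.eq_one_iff n).mpr (h ▸ ⟨hn, hn2⟩))
        rw [hb, card_bot, hQ16] at hmod
        exact absurd hmod (by decide)
      · refine hkey y fun n hn => ?_
        have h1 : n ∈ W := h.symm ▸ hn
        rw [← QuotientGroup.eq_one_iff]
        show QuotientGroup.mk' _ (n * y * n⁻¹ * y⁻¹) = 1
        rw [map_mul, map_mul, map_mul, mem_centralizer_singleton_iff.mp h1.2, map_inv, map_inv]; group
    exact hfix x hx y hyN (by rw [hyx.symm.eq]; simp [(sgn D E).one_mem])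
  refine ⟨hS2, ?_, ?_⟩
  · obtain ⟨P⟩ : Nonempty (Sylow 5 D) := inferInstance
    have hP5 := C.card_sylow P
    obtain ⟨⟨x, hxP⟩, hx0⟩ := exists_prime_orderOf_dvd_card' (G := (P : Subgroup D)) 5 (dvd_of_eq hP5.symm)
    rw [Subgroup.orderOf_mk] at hx0
    have hPx : (P : Subgroup D) = zpowers x :=
      (eq_of_le_of_card_ge (zpowers_le.mpr hxP) (by rw [hP5, Nat.card_zpowers, hx0])).symm
    set K := normalizer ((P : Subgroup D) : Set D) with hK
    have hCK : centralizer ({x} : Set D) ≤ K := by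
      rw [hK, hPx, zpowers_eq_closure]
      exact (centralizer_closure ({x} : Set D)).ge.trans (centralizer_le_normalizer _)
    have hC10 : Nat.card (centralizer ({x} : Set D)) ≤ 10 := by
      haveI := OddTransitive.isCyclic_centralizer (C.irr hx0)
      obtain ⟨⟨g, hg⟩, hgen⟩ := IsCyclic.exists_zpow_surjective (G := centralizer ({x} : Set D))
      have hg5 : g ^ 5 ∈ sgn D E := hcentx x _ hx0
        ((show Commute g x from mem_centralizer_singleton_iff.mp hg).pow_left 5)
        (by rw [← pow_mul]; exact orderOf_dvd_iff_pow_eq_one.mp ((orderOf_dvd_natCard g).trans C.hdvd))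
      have hg10 : g ^ 10 = 1 := by
        have h1 := pow_card_eq_one' (x := (⟨_, hg5⟩ : sgn D E))
        rw [hS2] at h1
        rw [show 10 = 5 * 2 from rfl, pow_mul]
        exact congrArg Subtype.val h1
      rw [← orderOf_eq_card_of_forall_mem_zpowers (g := (⟨g, hg⟩ : centralizer ({x} : Set D))) fun y => hgen y,
        Subgroup.orderOf_mk]
      exact Nat.le_of_dvd (by norm_num) (orderOf_dvd_of_pow_eq_one hg10)
    have hK40 : Nat.card K ≤ 40 := by
      let f := (P : Subgroup D).normalizerMonoidHom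
      have h1 := f.ker.card_mul_index
      have hA : f.ker.index ≤ 4 := by
        rw [index_ker]
        haveI : IsCyclic (P : Subgroup D) := isCyclic_of_prime_card (p := 5) hP5
        refine (card_subgroup_dvd_card f.range |> Nat.le_of_dvd Nat.card_pos).trans ?_
        rw [IsCyclic.card_mulAut, hP5, Nat.totient_prime (by norm_num)]
      have hB : Nat.card f.ker ≤ 10 := by
        refine le_trans ?_ hC10
        refine Nat.card_le_card_of_injective (fun w => ⟨((w : K) : D), ?_⟩) fun a b h => ?_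
        · have hw := (Subgroup.normalizerMonoidHom_ker (P : Subgroup D)).le w.2
          rw [mem_subgroupOf] at hw
          exact mem_centralizer_singleton_iff.mpr (mem_centralizer_iff.mp hw x hxP).symm
        · simp only [Subtype.mk.injEq] at h
          exact Subtype.ext (Subtype.ext h)
      rw [← h1]
      exact (Nat.mul_le_mul hB hA)
    have hidx := K.index_mul_card
    have hcop : K.index ∣ 512 := by
      obtain ⟨c, hc⟩ : 5 ∣ Nat.card K := (dvd_of_eq hP5.symm).trans (card_dvd_of_le le_normalizer)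
      have h1 := C.hdvd
      rw [← hidx, hc, show K.index * (5 * c) = 5 * (K.index * c) by ring, show (2560 : ℕ) = 5 * 512 from rfl] at h1
      exact (dvd_mul_right _ _).trans (Nat.dvd_of_mul_dvd_mul_left (by norm_num) h1)
    have hmod : K.index % 5 = 1 := by
      have h1 := card_sylow_modEq_one 5 D
      rw [Sylow.card_eq_index_normalizer P] at h1
      exact h1
    obtain ⟨i, hi, hii⟩ := (Nat.dvd_prime_pow Nat.prime_two).mp (show K.index ∣ 2 ^ 9 from hcop)
    rw [hii] at hmod
    have : i = 0 ∨ i = 4 ∨ i = 8 := by interval_cases i <;> omega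
    rcases this with rfl | rfl | rfl
    · exfalso
      have hT : K = ⊤ := index_eq_one.mp (by rw [hii, pow_zero])
      have hn : (P : Subgroup D).Normal := normalizer_eq_top_iff.mp hT
      exact C.hnn x hx0 (hPx ▸ hn)
    · rw [← hidx, hii]; omega
    · exfalso
      have hS10 : 10 ∣ Nat.card (centralizer ({x} : Set D)) := by
        refine Nat.Coprime.mul_dvd_of_dvd_of_dvd (by norm_num : Nat.Coprime 2 5) ?_ ?_
        · rw [← hS2]; exact card_dvd_of_le fun s hs => mem_centralizer_singleton_iff.mpr (sgn_comm hs x).eq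
        · rw [← hx0, ← Nat.card_zpowers]
          exact card_dvd_of_le (zpowers_le.mpr (mem_centralizer_singleton_iff.mpr rfl))
      have hC := Nat.le_of_dvd Nat.card_pos hS10
      have hCKle := card_le_of_le hCK
      have h1 : K.index * Nat.card K ≤ 2560 := hidx ▸ Nat.le_of_dvd (by norm_num) C.hdvd
      rw [hii] at h1
      have hCeq : centralizer ({x} : Set D) = K := eq_of_le_of_card_ge hCK (by omega)
      have hle : normalizer ((P : Subgroup D) : Set D) ≤ centralizer ((P : Subgroup D) : Set D) := by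
        show K ≤ _
        rw [← hCeq, hPx, zpowers_eq_closure, centralizer_closure]
      have hker : IsPGroup 2 (MonoidHom.transferSylow P hle).ker :=
        C.isPGroup (MonoidHom.not_dvd_card_ker_transferSylow P hle)
      have hkN := card_le_of_le (hmax _ inferInstance hker)
      have hmul := (MonoidHom.ker_transferSylow_isComplement' P hle).card_mul_card
      rw [hP5, ← hidx, hii] at hmul
      omega
  · intro g hg
    set T := centralizer ({g} : Set D) with hT
    have hidx := T.index_mul_card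
    by_contra hlt
    push Not at hlt
    have hi10 : T.index < 10 := by nlinarith
    have hdi : T.index ∣ 2560 := (index_dvd_card T).trans C.hdvd
    have hcases : T.index = 5 ∨ (T.index ≤ 8 ∧ ¬ 5 ∣ T.index) := by
      have : T.index ∈ Nat.divisors 2560 := Nat.mem_divisors.mpr ⟨hdi, by norm_num⟩
      revert hi10
      generalize T.index = t at this ⊢
      revert t
      decide +kernel
    have hgN : (∀ n ∈ N, Commute g n) → False := fun h => hg (hCN g h)
    rcases hcases with h5 | ⟨h8, h5⟩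
    · have hnd : ¬ 5 ∣ Nat.card T := by
        intro hd
        have h1 := C.hdvd
        rw [← hidx, h5] at h1
        exact absurd ((Nat.mul_dvd_mul_left 5 hd).trans h1) (by norm_num)
      have hT2 := C.isPGroup hnd
      obtain ⟨Q, hQ⟩ := hT2.exists_le_sylow
      have hQeq : T = (Q : Subgroup D) := by
        refine eq_of_le_of_card_ge hQ (Nat.le_of_dvd Nat.card_pos ?_)
        obtain ⟨k, hk⟩ := IsPGroup.iff_card.mp Q.2
        have h1 : Nat.card (Q : Subgroup D) ∣ T.index * Nat.card T := hidx ▸ card_subgroup_dvd_card _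
        rw [h5, hk] at h1
        rw [hk]
        exact Nat.Coprime.dvd_of_dvd_mul_left (Nat.Coprime.pow_left k (by norm_num)) h1
      refine hgN fun n hn => ?_
      have : n ∈ T := by
        rw [hQeq]
        exact sup_eq_left.mp (Q.is_maximal' (Q.2.to_sup_of_normal_right hN2) le_sup_left) hn
      exact (mem_centralizer_singleton_iff.mp this).symm
    · have h5T : 5 ∣ Nat.card T := by
        have h1 := C.h5
        rw [← hidx] at h1
        exact ((Nat.prime_five).dvd_mul.mp h1).resolve_left h5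
      obtain ⟨⟨y, hyT⟩, hy⟩ := exists_prime_orderOf_dvd_card' 5 h5T
      rw [Subgroup.orderOf_mk] at hy
      have hyg : Commute y g := mem_centralizer_singleton_iff.mp hyT
      have hyW : y ∈ normalizer ((N ⊓ T : Subgroup D) : Set D) :=
        inf_normalizer_le_normalizer_inf ⟨by rw [normalizer_eq_top]; exact mem_top _, le_normalizer hyT⟩
      have hST : sgn D E ≤ N ⊓ T :=
        le_inf hSN fun s hs => mem_centralizer_singleton_iff.mpr (sgn_comm hs g).eq
      rcases hinv y hy (N ⊓ T) hST inf_le_left hyW with h | h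
      · have h1 : (N ⊓ T).relIndex N ≤ T.index := by
          rw [inf_comm, inf_relIndex_right, ← relIndex_top_right T]
          exact relIndex_le_of_le_right le_top (by rw [relIndex_top_right]; exact FiniteIndex.index_ne_zero)
        have h2 := relIndex_mul_relIndex ⊥ (N ⊓ T) N bot_le inf_le_left
        rw [relIndex_bot_left, relIndex_bot_left, h, hS2, hN32] at h2
        rw [h] at h1
        omega
      · exact hgN fun n hn => (mem_centralizer_singleton_iff.mp (h.symm ▸ hn : n ∈ N ⊓ T).2).symm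

theorem classes_le : Nat.card (ConjClasses D) ≤ 2 + Nat.card D / 10 := by
  classical
  obtain ⟨hS2, -, hcen⟩ := C.bounds
  haveI := Fintype.ofFinite D
  have h := card_comm_eq_card_conjClasses_mul_card D
  rw [Nat.card_congr ((Equiv.subtypeProdEquivSigmaSubtype fun a b : D => Commute a b)), Nat.card_sigma] at h
  have hb : ∀ a : D, 10 * Nat.card {b // Commute a b} ≤
      Nat.card D + (if a ∈ sgn D E then 9 * Nat.card D else 0) := by
    intro a
    have he : Nat.card {b // Commute a b} = Nat.card (centralizer ({a} : Set D)) :=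
      Nat.card_congr (Equiv.subtypeEquivRight fun b => by
        rw [mem_centralizer_singleton_iff]; exact ⟨fun h => h.eq.symm, fun h => h.symm⟩)
    rw [he]
    split_ifs with ha
    · have := card_le_card_group (centralizer ({a} : Set D))
      omega
    · exact hcen a ha
  have hsum := Finset.sum_le_sum (s := Finset.univ) fun a _ => hb a
  rw [← Finset.mul_sum, h, Finset.sum_add_distrib, ← Finset.sum_filter, Finset.sum_const, Finset.sum_const,
    Finset.card_univ, ← Nat.card_eq_fintype_card, ← Fintype.card_subtype, ← Nat.card_eq_fintype_card,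
    show Nat.card {a // a ∈ sgn D E} = 2 from hS2, smul_eq_mul, smul_eq_mul] at hsum
  have hpos : 0 < Nat.card D := Nat.card_pos
  have : 10 * Nat.card (ConjClasses D) ≤ Nat.card D + 18 := by nlinarith
  omega

end Ctx

end EightyOne

variable {D E : Type*} [Group D] [Finite D] [AddCommGroup E] [Finite E] [DistribMulAction D E] [FaithfulSMul D E]

/-- A coprime transitive group on `3 ^ 4` vectors. -/
theorem eighty_one (hE : ∀ e : E, 3 • e = 0) (hcard : Nat.card E = 3 ^ 4) (hD : ¬ 3 ∣ Nat.card D)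
    (htrans : ∀ a b : E, a ≠ 0 → b ≠ 0 → ∃ d : D, d • a = b) :
    (∃ x : D, orderOf x = 5 ∧ (Subgroup.zpowers x).Normal) ∨ Small D E := by
  classical
  refine or_iff_not_imp_left.mpr fun hnn => ?_
  haveI : Fact (Nat.Prime 3) := ⟨Nat.prime_three⟩
  haveI : Fact (Nat.Prime 5) := ⟨by norm_num⟩
  haveI : Fact (Nat.Prime 13) := ⟨by norm_num⟩
  haveI : Nontrivial E := Finite.one_lt_card_iff_nontrivial.mp (by rw [hcard]; norm_num)
  letI : Module (ZMod 3) E := AddCommGroup.zmodModule (n := 3) hE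
  haveI : Module.Finite (ZMod 3) E := Module.Finite.of_finite
  have h80 : 80 ∣ Nat.card D := by
    have := KpRegular.pow_sub_one_dvd_card (p := 3) hcard htrans
    norm_num at this
    exact this
  have hGL : Nat.card D ∣ 33280 := by
    let b := Module.finBasisOfFinrankEq (ZMod 3) E (KpRegular.finrank_eq (p := 3) (E := E) hcard)
    let f := ((LinearMap.toMatrixAlgEquiv b).toRingEquiv.toRingHom.toMonoidHom.comp
      (EightyOne.lin D E)).toHomUnits
    have hf : Function.Injective f := fun a c h => EightyOne.lin_injective (E := E)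
      ((LinearMap.toMatrixAlgEquiv b).injective (congrArg Units.val h))
    have h1 := Subgroup.card_dvd_of_injective f hf
    rw [Matrix.card_GL_field, Fin.prod_univ_four, ZMod.card] at h1
    norm_num at h1
    have h2 : Nat.card D ∣ 33280 * 3 ^ 6 := by norm_num; exact h1
    exact (Nat.Coprime.pow_right 6 (Nat.prime_three.coprime_iff_not_dvd.mpr hD).symm).dvd_of_dvd_mul_right h2
  have h13 : ¬ 13 ∣ Nat.card D := by
    intro h
    obtain ⟨χ, hχ, hfaith, hdn⟩ := KpRegular.exists_character hE hD hcard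
    have hsq : ¬ 13 ^ 2 ∣ Nat.card D := fun h' => absurd (h'.trans hGL) (by norm_num)
    by_cases hn : ∀ H : Subgroup D, H.Normal → Nat.card H ≠ 13
    · have := Cfsg.Agent.S4503.result 13 (by norm_num) h hsq hn χ hχ hfaith
      omega
    · push Not at hn
      obtain ⟨H, hH, hH13⟩ := hn
      let F : AddSubgroup E :=
        { carrier := {e | ∀ g ∈ H, g • e = e}
          zero_mem' := fun g _ => smul_zero g
          add_mem' := fun {u v} hu hv g hg => by rw [smul_add, hu g hg, hv g hg]
          neg_mem' := fun {u} hu g hg => by rw [smul_neg, hu g hg] }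
      have hF : F = ⊥ := by
        rw [eq_bot_iff]
        intro e he
        by_contra hne
        haveI : Nontrivial H := Finite.one_lt_card_iff_nontrivial.mp (by rw [hH13]; norm_num)
        obtain ⟨⟨g, hg⟩, hg1⟩ := exists_ne (1 : H)
        refine hg1 (Subtype.ext (FaithfulSMul.eq_of_smul_eq_smul fun v : E => ?_))
        show g • v = (1 : D) • v
        rw [one_smul]
        by_cases hv : v = 0
        · rw [hv, smul_zero]
        obtain ⟨d, rfl⟩ := htrans e v (fun h => hne (by rw [h]; exact zero_mem _)) hv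
        rw [smul_smul, show g * d = d * (d⁻¹ * g * d) by group, mul_smul]
        congr 1
        exact he _ (by simpa using hH.conj_mem g hg d⁻¹)
      have hP : IsPGroup 13 H := IsPGroup.of_card (n := 1) (by rw [hH13, pow_one])
      have hmod := hP.card_modEq_card_fixedPoints (α := E)
      have hfix : MulAction.fixedPoints H E = (F : Set E) := by
        ext e
        exact ⟨fun h g hg => h ⟨g, hg⟩, fun h g => h g g.2⟩
      rw [hfix, SetLike.coe_sort_coe, hF, hcard, AddSubgroup.card_bot] at hmod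
      exact absurd hmod (by decide)
  have C : EightyOne.Ctx D E :=
    { hE := hE
      hcard := hcard.trans (by norm_num)
      hdvd := (((Nat.Prime.coprime_iff_not_dvd (by norm_num : Nat.Prime 13)).mpr h13).symm).dvd_of_dvd_mul_right (by exact hGL : Nat.card D ∣ 2560 * 13)
      h5 := Nat.dvd_trans (by norm_num) h80
      hnn := fun x hx hn => hnn ⟨x, hx, hn⟩ }
  intro v hv
  obtain ⟨-, h640, -⟩ := C.bounds
  have hk := C.classes_le
  have hs := MulAction.index_stabilizer D v
  have hst := (MulAction.stabilizer D v).index_mul_card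
  have horb : MulAction.orbit D v = ({0} : Set E)ᶜ := by
    ext w
    refine ⟨?_, fun hw => htrans v w hv hw⟩
    rintro ⟨d, rfl⟩ h0
    exact hv (smul_left_cancel d (h0.trans (smul_zero d).symm))
  rw [horb, Set.ncard_compl, Set.ncard_singleton, hcard] at hs
  rw [hs, show (3 : ℕ) ^ 4 = 81 from rfl] at hst
  refine Or.inr (Or.inl ?_)
  rw [hcard, show (3 : ℕ) ^ 4 = 81 from rfl]
  omega

end CfsgLib.KgvTrans
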