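import Cfsg.Agent.Lib.KgvTrans.Defs
import Cfsg.Agent.Lib.KpRegular.PlaneClasses

/-!
# Transitive groups of order prime to `p` on a plane: the class number bound
-/

set_option autoImplicit false
set_option linter.style.haveILetI false
set_option linter.unusedSectionVars false

namespace CfsgLib.KgvTrans

variable {D E : Type*} [Group D] [Finite D] [AddCommGroup E] [Finite E] [DistribMulAction D E]
  [FaithfulSMul D E] {p : ℕ} [Fact p.Prime]

section

variable [Module (ZMod p) E]

/-- A vector stabiliser of a plane acts faithfully on the quotient by the fixed line. -/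
theorem card_stabilizer_dvd_of_plane (hcard : Nat.card E = p ^ 2) (hD : ¬ p ∣ Nat.card D)
    {v : E} (hv : v ≠ 0) : Nat.card (MulAction.stabilizer D v) ∣ p - 1 := by
  classical
  have hp : p.Prime := Fact.out
  obtain ⟨w, hw⟩ : ∃ w : E, ∀ a : ZMod p, w ≠ a • v := by
    by_contra h
    push Not at h
    have hle := Nat.card_le_card_of_surjective (fun a : ZMod p => a • v)
      fun e => by obtain ⟨a, ha⟩ := h e; exact ⟨a, ha.symm⟩
    rw [hcard, Nat.card_zmod, sq] at hle
    nlinarith [hp.two_le]
  have hinj : Function.Injective fun ab : ZMod p × ZMod p => ab.1 • v + ab.2 • w := by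
    rintro ⟨a, b⟩ ⟨a', b'⟩ h
    simp only at h
    have h' : (b - b') • w = (a' - a) • v := by linear_combination (norm := module) h
    have hb : b - b' = 0 := by
      by_contra hb
      exact hw ((b - b')⁻¹ * (a' - a))
        (by rw [mul_smul, ← h', smul_smul, inv_mul_cancel₀ hb, one_smul])
    rw [hb, zero_smul] at h'
    have ha := (smul_eq_zero.1 h'.symm).resolve_right hv
    simp [sub_eq_zero.1 hb, sub_eq_zero.1 ha]
  have hbij : Function.Bijective fun ab : ZMod p × ZMod p => ab.1 • v + ab.2 • w :=
    (Nat.bijective_iff_injective_and_card _).2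
      ⟨hinj, by rw [Nat.card_prod, Nat.card_zmod, hcard, sq]⟩
  have hco : ∀ d : MulAction.stabilizer D v, ∃ ab : ZMod p × ZMod p,
      ab.1 • v + ab.2 • w = (d : D) • w := fun d => hbij.2 _
  choose f hf using hco
  have hfix : ∀ d : MulAction.stabilizer D v, (d : D) • v = v := fun d => d.2
  have hne : ∀ d, (f d).2 ≠ 0 := by
    intro d h
    have h1 := hf d
    rw [h, zero_smul, add_zero] at h1
    refine hw (f d).1 (smul_left_cancel (d : D) ?_)
    rw [CfsgLib.KpRegular.smul_scalar, hfix, h1]
  have hmul : ∀ d e, (f (d * e)).2 = (f d).2 * (f e).2 := by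
    intro d e
    have h1 := hf (d * e)
    rw [Subgroup.coe_mul, mul_smul, ← hf e, smul_add, CfsgLib.KpRegular.smul_scalar,
      CfsgLib.KpRegular.smul_scalar, hfix, ← hf d] at h1
    have h2 := hinj (a₁ := f (d * e))
      (a₂ := ((f e).1 + (f e).2 * (f d).1, (f e).2 * (f d).2))
      (h1.trans (by module))
    rw [h2]
    exact mul_comm _ _
  let χ : MulAction.stabilizer D v →* (ZMod p)ˣ :=
    MonoidHom.mk' (fun d => Units.mk0 (f d).2 (hne d)) fun d e => Units.ext (hmul d e)
  have hker : Function.Injective χ := by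
    refine (injective_iff_map_eq_one χ).2 fun d hd => ?_
    have hd' : (f d).2 = 1 := congrArg Units.val hd
    have hdw : (d : D) • w = w + (f d).1 • v := by
      rw [← hf d, hd', one_smul, add_comm]
    have hpow : ∀ n : ℕ, ((d : D) ^ n) • w = w + ((n : ZMod p) * (f d).1) • v := by
      intro n
      induction n with
      | zero => simp
      | succ n ih =>
        rw [pow_succ', mul_smul, ih, smul_add, CfsgLib.KpRegular.smul_scalar, hfix, hdw]
        push_cast
        module
    have hdp : (d : D) ^ p = 1 := by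
      refine eq_of_smul_eq_smul fun e : E => ?_
      obtain ⟨⟨a, b⟩, rfl⟩ := hbij.2 e
      simp only [smul_add, CfsgLib.KpRegular.smul_scalar]
      rw [hpow p, ZMod.natCast_self, zero_mul, zero_smul, add_zero,
        show ((d : D) ^ p) • v = v from
          MulAction.mem_stabilizer_iff.1 ((MulAction.stabilizer D v).pow_mem d.2 p)]
      simp
    refine Subtype.ext ?_
    by_contra hne1
    have : orderOf (d : D) = p :=
      orderOf_eq_prime hdp hne1
    exact hD (this ▸ orderOf_dvd_natCard _)
  have := Subgroup.card_dvd_of_injective χ hker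
  rwa [Nat.card_eq_fintype_card (α := (ZMod p)ˣ), ZMod.card_units] at this

/-- The centraliser of a non-scalar is no bigger than the set of nonzero vectors. -/
theorem card_centralizer_lt_of_plane (hcard : Nat.card E = p ^ 2) {d : D}
    (hd : d ∉ CfsgLib.KpRegular.scal D E p) :
    Nat.card (Subgroup.centralizer ({d} : Set D)) ≤ p ^ 2 - 1 := by
  classical
  obtain ⟨v, hv⟩ := CfsgLib.KpRegular.exists_cyclic_vector p hcard hd
  have hv0 : v ≠ 0 := by
    intro h
    have := hv.1 (a₁ := ((1 : ZMod p), (0 : ZMod p))) (a₂ := (0, 0)) (by simp [h])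
    simp at this
  have hinj : Function.Injective (fun x : Subgroup.centralizer ({d} : Set D) =>
      (⟨(x : D) • v, fun h => hv0 ((smul_eq_zero_iff_eq (x : D)).1 h)⟩ : {e : E // e ≠ 0})) := by
    intro x y h
    have hxy : (x : D) • v = (y : D) • v := congrArg Subtype.val h
    refine Subtype.ext (eq_of_smul_eq_smul fun e : E => ?_)
    obtain ⟨⟨a, b⟩, rfl⟩ := hv.2 e
    have hx : (x : D) * d = d * x := Subgroup.mem_centralizer_singleton_iff.1 x.2
    have hy : (y : D) * d = d * y := Subgroup.mem_centralizer_singleton_iff.1 y.2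
    simp only [smul_add, CfsgLib.KpRegular.smul_scalar, ← mul_smul]
    rw [hx, hy, mul_smul, mul_smul, hxy]
  refine (Nat.card_le_card_of_injective _ hinj).trans (le_of_eq ?_)
  rw [show Nat.card {e : E // e ≠ 0} = ({0}ᶜ : Set E).ncard from rfl, Set.ncard_compl, hcard,
    Set.ncard_singleton]

theorem card_conjClasses_le_of_plane (hcard : Nat.card E = p ^ 2) :
    Nat.card (ConjClasses D) ≤ Nat.card (CfsgLib.KpRegular.scal D E p) + (p ^ 2 - 1) := by
  classical
  haveI := Fintype.ofFinite D
  refine Nat.le_of_mul_le_mul_right ?_ (Nat.card_pos (α := D))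
  rw [← card_comm_eq_card_conjClasses_mul_card,
    Nat.card_congr (Equiv.subtypeProdEquivSigmaSubtype fun a b : D => Commute a b), Nat.card_sigma]
  refine (Finset.sum_le_sum
    (g := fun x : D => (if x ∈ CfsgLib.KpRegular.scal D E p then Nat.card D else 0) + (p ^ 2 - 1))
    fun x _ => ?_).trans (le_of_eq ?_)
  · by_cases hx : x ∈ CfsgLib.KpRegular.scal D E p
    · rw [if_pos hx]
      exact (Nat.card_le_card_of_injective Subtype.val Subtype.val_injective).trans
        (Nat.le_add_right _ _)
    · rw [if_neg hx, zero_add]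
      refine le_trans (le_of_eq (Nat.card_congr (Equiv.subtypeEquivRight fun b =>
        ⟨fun h => Subgroup.mem_centralizer_singleton_iff.2 h.symm,
          fun h => (Subgroup.mem_centralizer_singleton_iff.1 h).symm⟩)))
        (card_centralizer_lt_of_plane hcard hx)
  · rw [Finset.sum_add_distrib, Finset.sum_const, ← Finset.sum_filter, Finset.sum_const,
      Finset.card_univ, ← Fintype.card_subtype]
    simp only [smul_eq_mul, ← Nat.card_eq_fintype_card]
    ring

end

theorem small_plane (hE : ∀ e : E, p • e = 0) (hcard : Nat.card E = p ^ 2)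
    (hD : ¬ p ∣ Nat.card D) (htrans : ∀ a b : E, a ≠ 0 → b ≠ 0 → ∃ d : D, d • a = b) :
    Small D E := by
  classical
  have hp : p.Prime := Fact.out
  letI : Module (ZMod p) E := AddCommGroup.zmodModule hE
  haveI : Nontrivial E := CfsgLib.KpRegular.plane_nontrivial p hcard
  intro v hv
  set c := Nat.card (MulAction.stabilizer D v) with hc
  have hc0 : 0 < c := Nat.card_pos
  have hcd : c ∣ p - 1 := card_stabilizer_dvd_of_plane hcard hD hv
  have hcle : c ≤ p - 1 := Nat.le_of_dvd (by have := hp.two_le; omega) hcd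
  by_cases hc1 : c = 1
  · exact Or.inl hc1
  have horb : MulAction.orbit D v = ({0} : Set E)ᶜ := by
    ext x
    refine ⟨?_, fun hx => htrans v x hv hx⟩
    rintro ⟨d, rfl⟩ h
    exact hv ((smul_eq_zero_iff_eq d).1 h)
  have hos : Nat.card D = (p ^ 2 - 1) * c := by
    haveI := Fintype.ofFinite D
    haveI := Fintype.ofFinite (MulAction.orbit D v)
    have h1 := MulAction.card_orbit_mul_card_stabilizer_eq_card_group D v
    simp only [← Nat.card_eq_fintype_card] at h1
    rw [← h1, horb, Nat.card_coe_set_eq, Set.ncard_compl, hcard, Set.ncard_singleton]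
  rcases Nat.lt_or_ge p 5 with hp5 | hp5
  · have hp3 : p = 3 := by
      have := hp.two_le
      interval_cases p
      · omega
      · rfl
      · exact absurd hp (by norm_num)
    subst hp3
    have hc2 : c = 2 := by omega
    exact Or.inr (Or.inr (Or.inr ⟨by rw [hcard]; norm_num, by rw [hos, hc2]; norm_num⟩))
  refine Or.inr (Or.inl ?_)
  rw [hcard]
  obtain ⟨z, hz⟩ : ∃ z, Nat.card (CfsgLib.KpRegular.scal D E p) = z := ⟨_, rfl⟩
  have hz0 : 0 < z := hz ▸ Nat.card_pos
  have hzle : z ≤ p - 1 :=
    hz ▸ Nat.le_of_dvd (by omega) (CfsgLib.KpRegular.card_scal_dvd p)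
  obtain ⟨h, hh⟩ : z ∣ Nat.card D := hz ▸ Subgroup.card_subgroup_dvd_card _
  have hpp : 5 * p ≤ p ^ 2 := by rw [sq]; exact Nat.mul_le_mul_right p hp5
  have hDge : p ^ 2 - 1 ≤ Nat.card D := hos ▸ Nat.le_mul_of_pos_right _ hc0
  have h2 : 2 ≤ h := by
    by_contra hn
    have : Nat.card D ≤ z := hh ▸ (Nat.mul_le_mul_left z (by omega : h ≤ 1)).trans (by omega)
    omega
  rcases CfsgLib.KpRegular.class_number_cases p hcard hp5 hD (by rw [hz]; exact hh) h2 with
    hk | hk | ⟨-, hk⟩ | ⟨-, hk⟩ | ⟨-, hk⟩
  · -- `D` is abelian, hence regular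
    exfalso
    refine hc1 (Subgroup.card_eq_one.2 ((Subgroup.eq_bot_iff_forall _).2 fun s hs => ?_))
    have hbij : Function.Bijective (ConjClasses.mk : D → ConjClasses D) :=
      (Nat.bijective_iff_surjective_and_card _).2 ⟨ConjClasses.mk_surjective, hk.symm⟩
    refine eq_of_smul_eq_smul fun e : E => ?_
    rw [one_smul]
    by_cases he : e = 0
    · rw [he, smul_zero]
    obtain ⟨d, rfl⟩ := htrans v e hv he
    have hcomm : d * s * d⁻¹ = s := hbij.1
      (ConjClasses.mk_eq_mk_iff_isConj.2 (isConj_iff.2 ⟨d⁻¹, by group⟩))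
    rw [← mul_smul, ← mul_inv_eq_iff_eq_mul.1 hcomm, mul_smul, MulAction.mem_stabilizer_iff.1 hs]
  · have hle := card_conjClasses_le_of_plane (D := D) hcard
    rw [hz] at hk hle
    rw [hos] at hk
    have hc3 : c ≤ 3 := by
      by_contra hc4
      have : (p ^ 2 - 1) * 4 ≤ (p ^ 2 - 1) * c := Nat.mul_le_mul_left _ (by omega)
      omega
    interval_cases c
    · exact absurd rfl hc1
    · omega
    · have : p ≠ 5 := by rintro rfl; norm_num at hcd
      have : 7 ≤ p := by
        by_contra hp7
        have hp6 : p = 6 := by omega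
        exact absurd hp (by rw [hp6]; norm_num)
      have : 7 * p ≤ p ^ 2 := by rw [sq]; exact Nat.mul_le_mul_right p this
      omega
  all_goals
    have h11 : 11 * (p - 1) < 2 * p ^ 2 := by
      obtain ⟨q, rfl⟩ : ∃ q, p = q + 5 := ⟨p - 5, by omega⟩
      rw [show q + 5 - 1 = q + 4 by omega]
      nlinarith
    rw [hz] at hk
    omega

end CfsgLib.KgvTrans
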