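import Cfsg.Agent.Lib.KgvTrans.Defs
import Cfsg.Agent.Lib.KpRegular.TwoDimArith
import Cfsg.Agent.Lib.Zassenhaus.Transfer

/-!
# An element of large prime order in a semilinear group of a plane is normal
-/

set_option autoImplicit false
set_option linter.style.haveILetI false
set_option linter.unusedSectionVars false

namespace CfsgLib.KgvTrans

namespace PlaneField

/-- A type of at least five in the class equation: abelian, dihedral or icosahedral. -/
theorem type_cases {h : ℕ} (h2 : 2 ≤ h) (M : Multiset ℕ) (hM : ∀ m ∈ M, 2 ≤ m ∧ m ≤ h)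
    (heq : (M.map fun m : ℕ => (1 : ℚ) - 1 / m).sum = 2 - 2 / h) {m : ℕ} (hm : m ∈ M) (h5 : 5 ≤ m) :
    h = m ∨ h = 2 * m ∨ (h = 60 ∧ m = 5) := by
  obtain ⟨M', rfl⟩ := Multiset.exists_cons_of_mem hm
  rw [Multiset.map_cons, Multiset.sum_cons] at heq
  have hh0 : (0 : ℚ) < h := by exact_mod_cast (by omega : 0 < h)
  have hm5 : (1 : ℚ) / m ≤ 1 / 5 := one_div_le_one_div_of_le (by norm_num) (by exact_mod_cast h5)
  have hlow : ∀ a ∈ M', (1 : ℚ) / 2 ≤ 1 - 1 / a := fun a ha => by
    have := one_div_le_one_div_of_le (by norm_num : (0 : ℚ) < 2)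
      (by exact_mod_cast (hM a (Multiset.mem_cons_of_mem ha)).1 : (2 : ℚ) ≤ a)
    linarith
  have hcard : Multiset.card M' ≤ 2 := by
    have := Multiset.card_nsmul_le_sum (s := M'.map fun a : ℕ => (1 : ℚ) - 1 / a) (a := 1 / 2)
      (fun x hx => by
        obtain ⟨a, ha, rfl⟩ := Multiset.mem_map.1 hx
        exact hlow a ha)
    rw [Multiset.card_map, nsmul_eq_mul] at this
    have : (0 : ℚ) < 2 / h := by positivity
    by_contra hc
    have : (3 : ℚ) ≤ Multiset.card M' := by exact_mod_cast (by omega : 3 ≤ Multiset.card M')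
    nlinarith
  rcases (by omega : Multiset.card M' = 0 ∨ Multiset.card M' = 1 ∨ Multiset.card M' = 2) with hc | hc | hc
  · rw [Multiset.card_eq_zero] at hc
    subst hc
    simp only [Multiset.map_zero, Multiset.sum_zero, add_zero] at heq
    have : (2 : ℚ) / h ≤ 1 := by rw [div_le_one hh0]; exact_mod_cast h2
    have : (0 : ℚ) < 1 / m := by positivity
    linarith
  · obtain ⟨a, rfl⟩ := Multiset.card_eq_one.1 hc
    left
    obtain ⟨ha2, hah⟩ := hM a (by simp)
    obtain ⟨-, hmh⟩ := hM m (by simp)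
    simp only [Multiset.map_singleton, Multiset.sum_singleton] at heq
    have h1 : (1 : ℚ) / h ≤ 1 / m := one_div_le_one_div_of_le (by positivity) (by exact_mod_cast hmh)
    have h3 : (1 : ℚ) / h ≤ 1 / a :=
      one_div_le_one_div_of_le (by exact_mod_cast (by omega : 0 < a)) (by exact_mod_cast hah)
    have hs : (2 : ℚ) / h = 1 / h + 1 / h := by ring
    have em : (1 : ℚ) / m = 1 / h := by linarith
    rw [one_div, one_div, inv_inj] at em
    exact_mod_cast em.symm
  · obtain ⟨a, b, rfl⟩ := Multiset.card_eq_two.1 hc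
    simp only [Multiset.insert_eq_cons, Multiset.map_cons, Multiset.sum_cons, Multiset.map_singleton,
      Multiset.sum_singleton] at heq
    right
    have key : ∀ u w : ℕ, 2 ≤ u → u ≤ w → (1 : ℚ) / u + 1 / w + 1 / m = 1 + 2 / h →
        h = 2 * m ∨ (h = 60 ∧ m = 5) := by
      intro u w hu huw e
      have hpos : (0 : ℚ) < 2 / h := by positivity
      have hu0 : (0 : ℚ) < u := by exact_mod_cast (by omega : 0 < u)
      have d1 : (1 : ℚ) / w ≤ 1 / u := one_div_le_one_div_of_le hu0 (by exact_mod_cast huw)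
      obtain rfl : u = 2 := by
        refine le_antisymm ?_ hu
        by_contra hn
        have : (1 : ℚ) / u ≤ 1 / 3 :=
          one_div_le_one_div_of_le (by norm_num) (by exact_mod_cast (by omega : 3 ≤ u))
        linarith
      have hw3 : w ≤ 3 := by
        by_contra hn
        have : (1 : ℚ) / w ≤ 1 / 4 :=
          one_div_le_one_div_of_le (by norm_num) (by exact_mod_cast (by omega : 4 ≤ w))
        push_cast at e
        linarith
      rcases (by omega : w = 2 ∨ w = 3) with rfl | rfl
      · left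
        norm_num at e
        have hm0 : (0 : ℚ) < m := by exact_mod_cast (by omega : 0 < m)
        have : (h : ℚ) = 2 * m := by field_simp at e; linarith
        exact_mod_cast this
      · right
        have hm6 : m < 6 := by
          by_contra hn
          have : (1 : ℚ) / m ≤ 1 / 6 :=
            one_div_le_one_div_of_le (by norm_num) (by exact_mod_cast (by omega : 6 ≤ m))
          push_cast at e
          linarith
        obtain rfl : m = 5 := by omega
        norm_num at e
        field_simp at e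
        refine ⟨?_, rfl⟩
        have : (h : ℚ) = 60 := by linarith
        exact_mod_cast this
    rcases le_total a b with hab | hab
    · exact key a b (hM a (by simp)).1 hab (by linarith)
    · exact key b a (hM b (by simp)).1 hab (by linarith)

variable {D : Type*} [Group D] {E : Type*} [AddCommGroup E] [DistribMulAction D E]
variable {F : Type*} [Field F] [Module F E] [SMulCommClass D F E]

theorem smul_comm' (d : D) (a : F) (e : E) : d • (a • e) = a • (d • e) := smul_comm d a e

variable (D E F) in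
/-- The elements acting as scalars. -/
def scal : Subgroup D where
  carrier := {d | ∃ a : Fˣ, ∀ e : E, d • e = (a : F) • e}
  one_mem' := ⟨1, fun e => by simp⟩
  mul_mem' := by
    rintro x y ⟨a, ha⟩ ⟨b, hb⟩
    exact ⟨a * b, fun e => by rw [mul_smul, hb, smul_comm', ha, Units.val_mul, mul_comm, mul_smul]⟩
  inv_mem' := by
    rintro x ⟨a, ha⟩
    refine ⟨a⁻¹, fun e => ?_⟩
    calc x⁻¹ • e = x⁻¹ • ((a : F) • ((a⁻¹ : Fˣ) : F) • e) := by
          rw [← mul_smul (a : F), Units.mul_inv, one_smul]
      _ = _ := by rw [← ha, inv_smul_smul]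

variable [FaithfulSMul D E]

theorem scal_le_centralizer (s : Set D) : scal D E F ≤ Subgroup.centralizer s := by
  rintro x ⟨a, ha⟩
  refine Subgroup.mem_centralizer_iff.2 fun y _ => ?_
  refine eq_of_smul_eq_smul fun e : E => ?_
  rw [mul_smul, mul_smul, ha, ha, smul_comm']

theorem conj_not_mem_scal {d : D} (hd : d ∉ scal D E F) (n : D) : n * d * n⁻¹ ∉ scal D E F := by
  intro h
  obtain ⟨a, ha⟩ := h
  refine hd ⟨a, fun e => ?_⟩
  have := ha (n • e)
  rw [mul_smul, inv_smul_smul, mul_smul, ← smul_comm'] at this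
  exact smul_left_cancel n this

theorem mem_scal_of_smul [Nontrivial E] {d : D} {a : F} (ha : ∀ e : E, d • e = a • e) :
    d ∈ scal D E F := by
  have h0 : a ≠ 0 := by
    rintro rfl
    obtain ⟨e, he⟩ := exists_ne (0 : E)
    refine he ?_
    have := ha e
    rw [zero_smul] at this
    exact (smul_eq_zero_iff_eq d).1 this
  exact ⟨Units.mk0 a h0, ha⟩

variable [Finite F] [Finite E] (hcard : Nat.card E = Nat.card F ^ 2)
include hcard

theorem plane_nontrivial : Nontrivial E :=
  Finite.one_lt_card_iff_nontrivial.1 (by rw [hcard]; exact Nat.one_lt_pow two_ne_zero Finite.one_lt_card)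

theorem exists_cyclic_vector {d : D} (hd : d ∉ scal D E F) :
    ∃ v : E, Function.Bijective fun ab : F × F => ab.1 • v + ab.2 • d • v := by
  haveI := plane_nontrivial hcard
  have key : ∃ v : E, v ≠ 0 ∧ ∀ c : F, d • v ≠ c • v := by
    by_contra hne
    push Not at hne
    obtain ⟨v0, hv0⟩ := exists_ne (0 : E)
    obtain ⟨c, hc⟩ := hne v0 hv0
    refine hd (mem_scal_of_smul (a := c) fun e => ?_)
    by_cases he : ∃ r : F, e = r • v0
    · obtain ⟨r, rfl⟩ := he
      rw [smul_comm', hc, smul_comm]
    · push Not at he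
      obtain ⟨c', hc'⟩ := hne e (fun h => he 0 (by rw [h, zero_smul]))
      obtain ⟨c'', hc''⟩ := hne (e + v0) (fun h => he (-1) (by
        rw [neg_one_smul]; exact eq_neg_of_add_eq_zero_left h))
      rw [smul_add, hc, hc'] at hc''
      have h1 : (c' - c'') • e = (c'' - c) • v0 := by
        linear_combination (norm := module) hc''
      have h2 : c' - c'' = 0 := by
        by_contra h
        exact he ((c' - c'')⁻¹ * (c'' - c)) (by rw [mul_smul, ← h1, smul_smul, inv_mul_cancel₀ h, one_smul])
      rw [h2, zero_smul] at h1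
      have h3 : c'' - c = 0 := (smul_eq_zero.1 h1.symm).resolve_right hv0
      rw [hc', sub_eq_zero.1 h2, sub_eq_zero.1 h3]
  obtain ⟨v, hv, hdv⟩ := key
  refine ⟨v, (Nat.bijective_iff_injective_and_card _).2 ⟨?_, ?_⟩⟩
  · rintro ⟨a, b⟩ ⟨a', b'⟩ h
    simp only at h
    have h' : (a - a') • v = (b' - b) • d • v := by
      generalize d • v = w at h ⊢
      linear_combination (norm := module) h
    have hb : b' - b = 0 := by
      by_contra hb
      exact hdv ((b' - b)⁻¹ * (a - a'))
        (by rw [mul_smul, h', smul_smul, inv_mul_cancel₀ hb, one_smul])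
    rw [hb, zero_smul] at h'
    have ha := (smul_eq_zero.1 h').resolve_right hv
    simp [sub_eq_zero.1 ha, (sub_eq_zero.1 hb)]
  · rw [Nat.card_prod, hcard, sq]

theorem comm_form {d x : D} (hd : d ∉ scal D E F) (hx : Commute x d) :
    ∃ a b : F, ∀ e : E, x • e = a • e + b • d • e := by
  obtain ⟨v, hv⟩ := exists_cyclic_vector hcard hd
  obtain ⟨⟨a, b⟩, hab⟩ := hv.2 (x • v)
  simp only at hab
  refine ⟨a, b, fun e => ?_⟩
  obtain ⟨⟨r, s⟩, rfl⟩ := hv.2 e
  have hxd : x • d • v = d • x • v := by rw [← mul_smul, hx.eq, mul_smul]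
  simp only [smul_add, smul_comm', hxd, ← hab]
  generalize d • d • v = w₂
  generalize d • v = w₁
  module

theorem comm_comm {d x y : D} (hd : d ∉ scal D E F)
    (hx : x ∈ Subgroup.centralizer ({d} : Set D)) (hy : y ∈ Subgroup.centralizer ({d} : Set D)) :
    x * y = y * x := by
  have hy' : Commute y d := Subgroup.mem_centralizer_singleton_iff.1 hy
  obtain ⟨a, b, hab⟩ := comm_form hcard hd (Subgroup.mem_centralizer_singleton_iff.1 hx)
  refine eq_of_smul_eq_smul fun e : E => ?_
  rw [mul_smul, mul_smul, hab, hab e, smul_add, smul_comm', smul_comm', ← mul_smul y d,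
    hy'.eq, mul_smul]

theorem centralizer_eq {d d' : D} (hd : d ∉ scal D E F)
    (h : d' ∈ Subgroup.centralizer ({d} : Set D)) (hd' : d' ∉ scal D E F) :
    Subgroup.centralizer ({d'} : Set D) = Subgroup.centralizer ({d} : Set D) := by
  haveI := plane_nontrivial hcard
  refine le_antisymm (fun x hx => ?_) (fun x hx => ?_)
  · have hx' : Commute x d' := Subgroup.mem_centralizer_singleton_iff.1 hx
    obtain ⟨a, b, hab⟩ := comm_form hcard hd (Subgroup.mem_centralizer_singleton_iff.1 h)
    have hb : b ≠ 0 := by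
      rintro rfl
      exact hd' (mem_scal_of_smul (a := a) fun e => by rw [hab, zero_smul, add_zero])
    refine Subgroup.mem_centralizer_singleton_iff.2 (eq_of_smul_eq_smul fun e : E => ?_)
    have h1 : x • d' • e = d' • x • e := by rw [← mul_smul, hx'.eq, mul_smul]
    rw [hab, hab, smul_add, smul_comm', smul_comm'] at h1
    rw [mul_smul, mul_smul]
    exact smul_right_injective E hb (add_left_cancel h1)
  · exact Subgroup.mem_centralizer_singleton_iff.2 (comm_comm hcard hd hx h)

variable {p : ℕ} [Fact p.Prime] (hp : (p : F) = 0) (h2 : (2 : F) ≠ 0) (hD : ¬ p ∣ Nat.card D) [Finite D]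
include hp h2 hD

theorem disc_ne {d : D} (hd : d ∉ scal D E F) {s t : F}
    (hall : ∀ e : E, d • d • e = s • e + t • d • e) : t * t + 4 * s ≠ 0 := by
  haveI := plane_nontrivial (F := F) hcard
  intro h0
  set c : F := 2⁻¹ * t with hc
  have hct : c + c = t := by rw [hc, ← two_mul, ← mul_assoc, mul_inv_cancel₀ h2, one_mul]
  have hs : s = -(c * c) := by
    have : (4 : F) * (s + c * c) = 0 := by rw [← hct] at h0; linear_combination h0
    have h4 : (4 : F) ≠ 0 := by
      rw [show (4 : F) = 2 * 2 by norm_num]; exact mul_ne_zero h2 h2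
    linear_combination (mul_eq_zero.1 this).resolve_left h4
  have hpow : ∀ (n : ℕ) (e : E),
      d ^ (n + 1) • e = c ^ (n + 1) • e + ((n + 1 : ℕ) * c ^ n) • (d • e - c • e) := by
    intro n
    induction n with
    | zero => intro e; simp
    | succ n ih =>
      intro e
      rw [pow_succ', mul_smul, ih, smul_add, smul_comm', smul_comm', smul_sub, smul_comm',
        hall, ← hct, hs]
      push_cast
      generalize d • e = w
      module
  have hdp : d ^ p ∈ scal D E F := by
    refine mem_scal_of_smul (a := c ^ p) fun e => ?_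
    obtain ⟨q, hq⟩ : ∃ q, p = q + 1 := ⟨p - 1, by have := (Fact.out : p.Prime).pos; omega⟩
    have := hpow q e
    rw [← hq] at this
    rw [this, hp, zero_mul, zero_smul, add_zero]
  have hcop : Nat.Coprime p (orderOf d) :=
    (Fact.out : p.Prime).coprime_iff_not_dvd.2 fun h => hD (h.trans (orderOf_dvd_natCard d))
  obtain ⟨m, hm⟩ := exists_pow_eq_self_of_coprime hcop
  exact hd (hm ▸ pow_mem hdp m)

theorem quad_conj {d : D} (hd : d ∉ scal D E F) :
    ∀ n m : D, n * d * n⁻¹ ∈ Subgroup.centralizer ({d} : Set D) → n * d * n⁻¹ ≠ d →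
      m * d * m⁻¹ ∈ Subgroup.centralizer ({d} : Set D) → m * d * m⁻¹ ≠ d →
      n * d * n⁻¹ = m * d * m⁻¹ := by
  haveI := plane_nontrivial hcard
  obtain ⟨v, hv⟩ := exists_cyclic_vector hcard hd
  obtain ⟨⟨s, t⟩, hst⟩ := hv.2 (d • d • v)
  simp only at hst
  have hall : ∀ e : E, d • d • e = s • e + t • d • e := by
    intro e
    obtain ⟨⟨r, r'⟩, rfl⟩ := hv.2 e
    simp only [smul_add, smul_comm', ← hst]
    generalize d • v = w
    module
  have hdisc := disc_ne hcard hp h2 hD hd hall
  have key : ∀ n : D, n * d * n⁻¹ ∈ Subgroup.centralizer ({d} : Set D) → n * d * n⁻¹ ≠ d →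
      ∀ e : E, (n * d * n⁻¹) • e = t • e + (-1 : F) • d • e := by
    intro n hn hne
    set x := n * d * n⁻¹ with hx
    obtain ⟨a, b, hab⟩ := comm_form hcard hd (Subgroup.mem_centralizer_singleton_iff.1 hn)
    have hb : b ≠ 0 := by
      rintro rfl
      exact conj_not_mem_scal hd n
        (mem_scal_of_smul (a := a) fun e => by rw [hab, zero_smul, add_zero])
    have hxx : x • x • v = s • v + t • x • v := by
      simp only [hx, mul_smul, inv_smul_smul]
      rw [hall, smul_add, smul_comm', smul_comm', smul_inv_smul]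
    have hL : (a * a + b * b * s) • v + (2 * a * b + b * b * t) • d • v =
        (s + t * a) • v + (t * b) • d • v := by
      have h1 : x • x • v = (a * a + b * b * s) • v + (2 * a * b + b * b * t) • d • v := by
        rw [hab, hab v]
        simp only [smul_add, smul_comm', hall]
        generalize d • v = w
        module
      rw [← h1, hxx, hab v]
      generalize d • v = w
      module
    have hinj := hv.1 (a₁ := (a * a + b * b * s, 2 * a * b + b * b * t)) (a₂ := (s + t * a, t * b)) hL
    rw [Prod.mk.injEq] at hinj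
    have h2a : 2 * a + b * t - t = 0 := (mul_eq_zero.1
      (by linear_combination hinj.2 : b * (2 * a + b * t - t) = 0)).resolve_left hb
    have hbb : (b * b - 1) * (t * t + 4 * s) = 0 := by
      linear_combination 4 * hinj.1 - (2 * a - b * t - t) * h2a
    have hb1 : (b - 1) * (b + 1) = 0 := by
      linear_combination (mul_eq_zero.1 hbb).resolve_right hdisc
    rcases mul_eq_zero.1 hb1 with h | h
    · exfalso
      have hb' : b = 1 := sub_eq_zero.1 h
      subst hb'
      have ha : a = 0 := (mul_eq_zero.1 (by linear_combination h2a : (2 : F) * a = 0)).resolve_left h2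
      subst ha
      exact hne (eq_of_smul_eq_smul fun e : E => by rw [hab, zero_smul, one_smul, zero_add])
    · have hb' : b = -1 := eq_neg_of_add_eq_zero_left h
      subst hb'
      have ha : a = t := by
        have : (2 : F) * (a - t) = 0 := by linear_combination h2a
        exact sub_eq_zero.1 ((mul_eq_zero.1 this).resolve_left h2)
      subst ha
      exact hab
  intro n m hn hn' hm hm'
  exact eq_of_smul_eq_smul fun e : E => by rw [key n hn hn', key m hm hm']

theorem card_stab {d : D} (hd : d ∉ scal D E F) {S : Subgroup D}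
    (hS : Subgroup.centralizer ({d} : Set D) ≤ S)
    (hSn : ∀ n ∈ S, n * d * n⁻¹ ∈ Subgroup.centralizer ({d} : Set D)) :
    ∃ e, (e = 1 ∨ e = 2) ∧ Nat.card S = e * Nat.card (Subgroup.centralizer ({d} : Set D)) := by
  classical
  haveI := Fintype.ofFinite D
  set A := Subgroup.centralizer ({d} : Set D) with hA
  obtain ⟨e, he⟩ : Nat.card A ∣ Nat.card S := Subgroup.card_dvd_of_le hS
  refine ⟨e, ?_, by rw [he, mul_comm]⟩
  have hle : Nat.card S ≤ Nat.card A * 2 := by
    rw [Nat.card_eq_fintype_card]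
    refine (Finset.card_le_mul_card_image (f := fun n : S => (n : D) * d * (n : D)⁻¹) Finset.univ
      (Nat.card A) (fun x hx => ?_)).trans (Nat.mul_le_mul_left _ ?_)
    · obtain ⟨n0, -, rfl⟩ := Finset.mem_image.1 hx
      rw [← Fintype.card_subtype, ← Nat.card_eq_fintype_card]
      refine Nat.card_le_card_of_injective
        (fun n => ⟨(n0 : D)⁻¹ * n.1, Subgroup.mem_centralizer_singleton_iff.2 ?_⟩) ?_
      · have h := n.2
        calc (n0 : D)⁻¹ * n.1 * d = (n0 : D)⁻¹ * ((n.1 : D) * d * (n.1 : D)⁻¹) * n.1 := by group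
          _ = (n0 : D)⁻¹ * ((n0 : D) * d * (n0 : D)⁻¹) * n.1 := by rw [h]
          _ = d * ((n0 : D)⁻¹ * n.1) := by group
      · intro a b h
        exact Subtype.ext (Subtype.ext (mul_left_cancel (congrArg Subtype.val h)))
    · by_cases hex : ∃ n : S, (n : D) * d * (n : D)⁻¹ ≠ d
      · obtain ⟨n, hn⟩ := hex
        refine (Finset.card_le_card (t := {d, (n : D) * d * (n : D)⁻¹}) ?_).trans Finset.card_le_two
        intro x hx
        obtain ⟨m, -, rfl⟩ := Finset.mem_image.1 hx
        simp only [Finset.mem_insert, Finset.mem_singleton]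
        by_cases hm : (m : D) * d * (m : D)⁻¹ = d
        · exact Or.inl hm
        · exact Or.inr (quad_conj hcard hp h2 hD hd m n (hSn m m.2) hm (hSn n n.2) hn)
      · push Not at hex
        refine (Finset.card_le_card (t := {d}) ?_).trans (by simp)
        intro x hx
        obtain ⟨m, -, rfl⟩ := Finset.mem_image.1 hx
        simp [hex m]
  have he2 : e ≤ 2 := Nat.le_of_mul_le_mul_left (he ▸ hle) Nat.card_pos
  have he0 : e ≠ 0 := by rintro rfl; exact (Nat.card_pos (α := S)).ne' (by simpa using he)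
  omega

/-- The class equation contains the type of each nonscalar element. -/
theorem exists_type {h : ℕ} (hh : Nat.card D = Nat.card (scal D E F) * h) (h1 : 2 ≤ h) {x : D}
    (hx : x ∉ scal D E F) :
    ∃ (m' : ℕ) (M : Multiset ℕ), Nat.card (Subgroup.centralizer ({x} : Set D)) = Nat.card (scal D E F) * m' ∧
      (∀ m ∈ M, 2 ≤ m ∧ m ≤ h) ∧ (M.map fun m : ℕ => (1 : ℚ) - 1 / m).sum = 2 - 2 / h ∧ m' ∈ M := by
  classical
  haveI := Fintype.ofFinite D
  set Z := scal D E F with hZ
  set z := Nat.card Z with hz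
  have hz0 : 0 < z := Nat.card_pos
  let T := {A : Subgroup D // ∃ d ∉ Z, Subgroup.centralizer ({d} : Set D) = A}
  have hmap : ∀ (g d : D), (Subgroup.centralizer ({d} : Set D)).map (MulAut.conj g).toMonoidHom =
      Subgroup.centralizer ({g * d * g⁻¹} : Set D) := by
    intro g d
    ext x
    rw [Subgroup.mem_map_equiv, Subgroup.mem_centralizer_singleton_iff,
      Subgroup.mem_centralizer_singleton_iff, MulAut.conj_symm_apply]
    constructor <;> intro h
    · calc x * (g * d * g⁻¹) = g * (g⁻¹ * x * g * d) * g⁻¹ := by group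
        _ = g * (d * (g⁻¹ * x * g)) * g⁻¹ := by rw [h]
        _ = g * d * g⁻¹ * x := by group
    · calc g⁻¹ * x * g * d = g⁻¹ * (x * (g * d * g⁻¹)) * g := by group
        _ = g⁻¹ * (g * d * g⁻¹ * x) * g := by rw [h]
        _ = d * (g⁻¹ * x * g) := by group
  letI actT : MulAction D T :=
    { smul := fun g A => ⟨A.1.map (MulAut.conj g).toMonoidHom, by
        obtain ⟨d, hd, hA⟩ := A.2
        exact ⟨g * d * g⁻¹, conj_not_mem_scal hd g, by rw [← hA, hmap]⟩⟩
      one_smul := fun A => Subtype.ext (by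
        show A.1.map (MulAut.conj (1 : D)).toMonoidHom = A.1
        rw [map_one]
        exact Subgroup.map_id A.1)
      mul_smul := fun g g' A => Subtype.ext (by
        show A.1.map (MulAut.conj (g * g')).toMonoidHom =
          (A.1.map (MulAut.conj g').toMonoidHom).map (MulAut.conj g).toMonoidHom
        rw [Subgroup.map_map, map_mul]
        rfl) }
  haveI : Fintype T := Fintype.ofFinite T
  let c : T → ℕ := fun A => Nat.card A.1
  have hcinv : ∀ (g : D) (A : T), c (g • A) = c A := fun g A =>
    (Nat.card_congr (A.1.equivMapOfInjective _ (MulAut.conj g).injective).toEquiv).symm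
  -- the partition
  have hnc : ∀ A : T, Nat.card {x : D // x ∈ A.1 ∧ x ∉ Z} = c A - z := by
    intro A
    obtain ⟨d, hd, hA⟩ := A.2
    have hle : Z ≤ A.1 := hA ▸ scal_le_centralizer _
    have e1 : Nat.card {x : D // x ∈ A.1 ∧ x ∉ Z} = ((A.1 : Set D) \ (Z : Set D)).ncard := rfl
    rw [e1, Set.ncard_sdiff hle]
    rfl
  let part : {x : D // x ∉ Z} ≃ Σ A : T, {x : D // x ∈ A.1 ∧ x ∉ Z} :=
    { toFun := fun x => ⟨⟨_, x.1, x.2, rfl⟩, x.1, Subgroup.mem_centralizer_singleton_iff.2 rfl, x.2⟩
      invFun := fun y => ⟨y.2.1, y.2.2.2⟩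
      left_inv := fun x => rfl
      right_inv := by
        rintro ⟨A, x, hxA, hxZ⟩
        obtain ⟨d, hd, hA⟩ := A.2
        refine Sigma.subtype_ext (Subtype.ext ?_) rfl
        rw [← hA] at hxA
        exact (centralizer_eq hcard hd hxA hxZ).trans hA }
  have hZcard : Fintype.card {x : D // x ∈ Z} = z := (Nat.card_eq_fintype_card).symm
  have eq1 : Nat.card D = z + ∑ A : T, (c A - z) := by
    have h1 := Fintype.sum_subtype_add_sum_subtype (fun x : D => x ∈ Z) (fun _ => 1)
    simp only [Finset.sum_const, Finset.card_univ, smul_eq_mul, mul_one] at h1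
    rw [Nat.card_eq_fintype_card, ← h1, hZcard, ← Nat.card_eq_fintype_card,
      Nat.card_congr part, Nat.card_sigma]
    simp only [hnc]
  -- orbits
  let Q := MulAction.orbitRel.Quotient D T
  haveI : Fintype Q := Fintype.ofFinite Q
  let n : Q → ℕ := fun ω => Nat.card (MulAction.orbit D ω.out)
  have horb : ∀ φ : ℕ → ℕ, ∑ A : T, φ (c A) = ∑ ω : Q, n ω * φ (c ω.out) := by
    intro φ
    rw [← (MulAction.selfEquivSigmaOrbits D T).symm.sum_comp, Fintype.sum_sigma]
    refine Finset.sum_congr rfl fun ω _ => ?_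
    refine (Finset.sum_congr rfl (g := fun _ => φ (c ω.out)) fun y _ => ?_).trans
      (by rw [Finset.sum_const, Finset.card_univ, smul_eq_mul, ← Nat.card_eq_fintype_card])
    obtain ⟨g, hg⟩ := y.2
    show φ (c y.1) = φ (c ω.out)
    rw [← hcinv g ω.out]
    exact congrArg (fun A => φ (c A)) hg.symm
  have hωe : ∀ ω : Q, ∃ f e m, f * e = 2 ∧ c ω.out = z * m ∧ 2 ≤ m ∧ n ω * e * m = h := by
    intro ω
    obtain ⟨d, hd, hA⟩ := ω.out.2
    set A := ω.out with hAdef
    have hlt : Z < A.1 := by
      rw [← hA]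
      refine lt_of_le_of_ne (scal_le_centralizer _) fun h => hd ?_
      exact h ▸ Subgroup.mem_centralizer_singleton_iff.2 rfl
    obtain ⟨m, hm⟩ : z ∣ c A := Subgroup.card_dvd_of_le hlt.le
    have hm2 : 2 ≤ m := by
      by_contra hm1
      have : c A ≤ z := by rw [hm]; nlinarith
      exact hlt.ne (Subgroup.eq_of_le_of_card_ge hlt.le this)
    have hst : ∀ g : D, g ∈ MulAction.stabilizer D A ↔
        Subgroup.centralizer ({g * d * g⁻¹} : Set D) = Subgroup.centralizer ({d} : Set D) := by
      intro g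
      rw [MulAction.mem_stabilizer_iff, ← hmap, hA]
      exact Subtype.ext_iff
    have hle : Subgroup.centralizer ({d} : Set D) ≤ MulAction.stabilizer D A := fun g hg => by
      rw [hst, Subgroup.mem_centralizer_singleton_iff.1 hg, mul_inv_cancel_right]
    have hmem : ∀ g ∈ MulAction.stabilizer D A,
        g * d * g⁻¹ ∈ Subgroup.centralizer ({d} : Set D) := fun g hg =>
      (hst g).1 hg ▸ Subgroup.mem_centralizer_singleton_iff.2 rfl
    obtain ⟨e, he, hcs⟩ := card_stab hcard hp h2 hD hd hle hmem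
    refine ⟨2 / e, e, m, by rcases he with rfl | rfl <;> rfl, hm, hm2, ?_⟩
    have h1 := MulAction.card_orbit_mul_card_stabilizer_eq_card_group D A
    simp only [← Nat.card_eq_fintype_card] at h1
    rw [hcs, hA, hh] at h1
    refine Nat.eq_of_mul_eq_mul_left hz0 ?_
    rw [← h1]
    show z * (n ω * e * m) = n ω * (e * c A)
    rw [hm]; ring
  choose f e m hfe hc hm2 hne using hωe
  let M : Multiset ℕ := (Finset.univ : Finset Q).val.bind fun ω => Multiset.replicate (f ω) (m ω)
  have hsum : ∀ {β : Type} [AddCommMonoid β] (g : ℕ → β),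
      (M.map g).sum = ∑ ω : Q, f ω • g (m ω) := by
    intro β _ g
    simp only [M, Multiset.map_bind, Multiset.sum_bind, Multiset.map_replicate,
      Multiset.sum_replicate]
    rfl
  have hnm : ∀ ω, n ω * m ω * 2 = h * f ω := fun ω => by rw [← hfe ω, ← hne ω]; ring
  have hM : ∀ x ∈ M, 2 ≤ x ∧ x ≤ h := by
    intro x hx
    obtain ⟨ω, -, hω⟩ := Multiset.mem_bind.1 hx
    obtain rfl := Multiset.eq_of_mem_replicate hω
    exact ⟨hm2 ω, Nat.le_of_dvd (by omega) ⟨n ω * e ω, by rw [← hne ω]; ring⟩⟩
  have hs1 : h = 1 + ∑ ω : Q, n ω * (m ω - 1) := by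
    refine Nat.eq_of_mul_eq_mul_left hz0 ?_
    rw [← hh, eq1, horb (fun x => x - z), Nat.mul_add, mul_one, Finset.mul_sum]
    congr 1
    refine Finset.sum_congr rfl fun ω _ => ?_
    rw [hc ω, mul_left_comm z, Nat.mul_sub z, mul_one]
  have heq : (M.map fun x : ℕ => (1 : ℚ) - 1 / x).sum = 2 - 2 / h := by
    rw [hsum]
    have hh0 : (h : ℚ) ≠ 0 := by exact_mod_cast (by omega : h ≠ 0)
    refine mul_left_cancel₀ hh0 ?_
    rw [Finset.mul_sum, show (h : ℚ) * (2 - 2 / h) = 2 * ((h : ℚ) - 1) by field_simp]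
    have e1 : (h : ℚ) - 1 = ((∑ ω : Q, n ω * (m ω - 1) : ℕ) : ℚ) := by
      have h' := congrArg (Nat.cast : ℕ → ℚ) hs1
      rw [Nat.cast_add, Nat.cast_one] at h'
      linarith
    rw [e1, Nat.cast_sum, Finset.mul_sum]
    refine Finset.sum_congr rfl fun ω _ => ?_
    have hm0 : (m ω : ℚ) ≠ 0 := by have := hm2 ω; exact_mod_cast (by omega : m ω ≠ 0)
    have e2 : (n ω : ℚ) * m ω * 2 = h * f ω := by exact_mod_cast hnm ω
    rw [Nat.cast_mul, Nat.cast_sub (by have := hm2 ω; omega), Nat.cast_one, nsmul_eq_mul]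
    field_simp
    linear_combination (-((m ω : ℚ) - 1)) * e2
  obtain ⟨ω, hω⟩ : ∃ ω : Q, c ω.out = Nat.card (Subgroup.centralizer ({x} : Set D)) := by
    let A : T := ⟨_, x, hx, rfl⟩
    refine ⟨Quotient.mk'' A, ?_⟩
    obtain ⟨g, hg⟩ := Quotient.mk_out (s := MulAction.orbitRel D T) A
    exact (congrArg c hg.symm).trans (hcinv g A)
  obtain ⟨m', hm'⟩ : ∃ m', Nat.card (Subgroup.centralizer ({x} : Set D)) = z * m' := ⟨m ω, hω ▸ hc ω⟩
  have hmω : m ω = m' := Nat.eq_of_mul_eq_mul_left hz0 ((hc ω).symm.trans (hω.trans hm'))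
  have hfω : f ω ≠ 0 := fun h0 => by have := hfe ω; rw [h0] at this; omega
  refine ⟨m', M, hm', hM, heq, Multiset.mem_bind.2 ⟨ω, Finset.mem_univ ω, ?_⟩⟩
  rw [← hmω]
  exact Multiset.mem_replicate.2 ⟨hfω, rfl⟩

/-- An element acting without eigenvalues on the plane: its centraliser is cyclic. -/
theorem no_fixed {r : ℕ} [hr : Fact r.Prime] {x : D} (hxr : orderOf x = r) (hx : x ∉ scal D E F)
    (hrF : ¬ r ∣ Nat.card F - 1) {v : E} (hv : v ≠ 0) (c : F) : x • v ≠ c • v := by
  haveI := plane_nontrivial (F := F) hcard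
  have hroot : ∀ {c : F} {v : E}, v ≠ 0 → x • v = c • v → c = 1 := by
    intro c v hv hcv
    have hpow : ∀ k : ℕ, x ^ k • v = c ^ k • v := by
      intro k
      induction k with
      | zero => simp
      | succ k ih => rw [pow_succ', mul_smul, ih, smul_comm', hcv, smul_smul, ← pow_succ]
    have hcr : c ^ r = 1 := smul_left_injective F hv (by
      simp only
      rw [← hpow r, ← hxr, pow_orderOf_eq_one, one_smul, one_smul])
    have hc0 : c ≠ 0 := by
      rintro rfl
      rw [zero_smul] at hcv
      exact hv ((smul_eq_zero_iff_eq x).1 hcv)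
    haveI := Fintype.ofFinite F
    rcases (Nat.dvd_prime hr.out).1 (orderOf_dvd_of_pow_eq_one hcr) with h | h
    · exact orderOf_eq_one_iff.1 h
    · refine absurd ?_ hrF
      rw [← h, Nat.card_eq_fintype_card]
      exact orderOf_dvd_of_pow_eq_one (FiniteField.pow_card_sub_one_eq_one c hc0)
  intro hcv
  obtain rfl := hroot hv hcv
  rw [one_smul] at hcv
  obtain ⟨w, hw⟩ := exists_cyclic_vector hcard hx
  obtain ⟨⟨s, t⟩, hst⟩ := hw.2 (x • x • w)
  simp only at hst
  have hall : ∀ e : E, x • x • e = s • e + t • x • e := by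
    intro e
    obtain ⟨⟨a, b⟩, rfl⟩ := hw.2 e
    simp only [smul_add, smul_comm', ← hst]
    generalize x • w = u
    module
  obtain ⟨⟨α, β⟩, hab⟩ := hw.2 v
  simp only at hab
  have hinj := hw.1 (a₁ := (β * s, α + β * t)) (a₂ := (α, β)) (by
    simp only
    have h3 : x • (α • w + β • x • w) = α • w + β • x • w := by rw [hab, hcv]
    rw [smul_add, smul_comm', smul_comm', ← hst] at h3
    generalize x • w = u at h3 ⊢
    linear_combination (norm := module) h3)
  rw [Prod.mk.injEq] at hinj
  obtain ⟨e1, e2⟩ := hinj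
  have hb : β ≠ 0 := by
    rintro rfl
    rw [zero_mul] at e1
    exact hv (by rw [← hab, ← e1, zero_smul, zero_smul, add_zero])
  have hst1 : s = 1 - t := by
    have : β * (s - (1 - t)) = 0 := by linear_combination e1 + e2
    exact sub_eq_zero.1 ((mul_eq_zero.1 this).resolve_left hb)
  set u := (-1 : F) • w + x • w with hu
  have hu0 : u ≠ 0 := by
    intro h0
    have := hw.1 (a₁ := ((-1 : F), (1 : F))) (a₂ := (0, 0)) (by simp only; rw [one_smul, ← hu, h0]; simp)
    simp at this
  have hxu : x • u = (t - 1) • u := by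
    rw [hu, smul_add, smul_comm', hall, hst1]
    generalize x • w = y
    module
  have ht := hroot hu0 hxu
  exact disc_ne hcard hp h2 hD hx hall (by linear_combination 4 * hst1 + (t - 2) * ht)

/-- The linear group: an element of prime order at least five without eigenvalues, other than the
exception of order five, generates a subgroup containing all elements of its order. -/
theorem mem_zpowers_of_orderOf {r : ℕ} [hr : Fact r.Prime] (hr5 : 5 ≤ r) (h35 : r ≠ 5 ∨ ¬ 3 ∣ Nat.card D)
    (hrF : ¬ r ∣ Nat.card F - 1) {x : D} (hxr : orderOf x = r) {y : D} (hyr : y ^ r = 1) :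
    y ∈ Subgroup.zpowers x := by
  classical
  haveI := plane_nontrivial (F := F) hcard
  have hzr : ¬ r ∣ Nat.card (scal D E F) := by
    intro hd
    obtain ⟨⟨d, a, ha⟩, hdo⟩ := exists_prime_orderOf_dvd_card' r hd
    replace hdo : orderOf d = r := (Subgroup.orderOf_coe _).trans hdo
    obtain ⟨v, hv⟩ := exists_ne (0 : E)
    have hpow : ∀ k : ℕ, ∀ e : E, d ^ k • e = (a : F) ^ k • e := by
      intro k
      induction k with
      | zero => simp
      | succ k ih => intro e; rw [pow_succ', mul_smul, ih, smul_comm', ha, smul_smul, ← pow_succ]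
    have har : (a : F) ^ r = 1 := smul_left_injective F hv (by
      simp only
      rw [← hpow r, ← hdo, pow_orderOf_eq_one, one_smul, one_smul])
    haveI := Fintype.ofFinite F
    rcases (Nat.dvd_prime hr.out).1 (orderOf_dvd_of_pow_eq_one har) with h | h
    · have : d = 1 := eq_of_smul_eq_smul fun e : E => by
        rw [ha, orderOf_eq_one_iff.1 h, one_smul, one_smul]
      rw [this, orderOf_one] at hdo
      exact hr.out.ne_one hdo.symm
    · exact hrF (h ▸ Nat.card_eq_fintype_card (α := F) ▸
        orderOf_dvd_of_pow_eq_one (FiniteField.pow_card_sub_one_eq_one _ a.ne_zero))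
  have hx : x ∉ scal D E F := fun h => hzr (hxr ▸ Subgroup.orderOf_dvd_natCard _ h)
  obtain ⟨h, hh⟩ : Nat.card (scal D E F) ∣ Nat.card D := Subgroup.card_subgroup_dvd_card _
  set C := Subgroup.centralizer ({x} : Set D) with hC
  have hxC : x ∈ C := Subgroup.mem_centralizer_singleton_iff.2 rfl
  have hlt : Nat.card (scal D E F) < Nat.card D := lt_of_le_of_ne
    (Subgroup.card_le_card_group _) fun e => hzr (e ▸ hxr ▸ orderOf_dvd_natCard x)
  have h1 : 2 ≤ h := by
    by_contra hn
    have : h = 0 ∨ h = 1 := by omega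
    rcases this with rfl | rfl
    · rw [mul_zero] at hh; exact Nat.card_pos.ne' hh
    · omega
  obtain ⟨m, M, hm, hM, heq, hmM⟩ := exists_type hcard hp h2 hD hh h1 hx
  have hrm : r ∣ m := (hr.out.dvd_mul.1 (hm ▸ hxr ▸ Subgroup.orderOf_dvd_natCard C hxC)).resolve_left hzr
  have hm5 : 5 ≤ m := hr5.trans (Nat.le_of_dvd (by have := (hM m hmM).1; omega) hrm)
  have hcase : h ≤ 2 * m := by
    rcases type_cases h1 M hM heq hmM hm5 with he | he | ⟨he, he'⟩
    · omega
    · omega
    · exfalso
      subst he'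
      obtain rfl : r = 5 := le_antisymm (Nat.le_of_dvd (by norm_num) hrm) hr5
      refine h35.elim (fun h => h rfl) fun h => h ?_
      rw [hh, he]
      exact Dvd.dvd.mul_left (by norm_num) _
  -- the centraliser has index at most two, and is cyclic
  have hindex : C.index ≤ 2 := by
    have h' := C.card_mul_index
    rw [hm, hh, mul_assoc] at h'
    have h'' := Nat.eq_of_mul_eq_mul_left (Nat.card_pos (α := scal D E F)) h'
    by_contra hi
    have : m * 3 ≤ h := h'' ▸ Nat.mul_le_mul_left m (by omega : 3 ≤ C.index)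
    omega
  have hmem : ∀ y : D, y ^ r = 1 → y ∈ C := by
    intro y hy
    have hy2 : y ^ 2 ∈ C := by
      rcases (by have := C.index_ne_zero_of_finite; omega : C.index = 1 ∨ C.index = 2) with hi | hi
      · rw [Subgroup.index_eq_one.1 hi]; trivial
      · exact Subgroup.sq_mem_of_index_two hi y
    obtain ⟨j, hj⟩ : Odd r := hr.out.odd_of_ne_two (by omega)
    have e : y = (y ^ 2) ^ (j + 1) := by
      rw [← pow_mul, show 2 * (j + 1) = r + 1 by omega, pow_succ, hy, one_mul]
    exact e ▸ pow_mem hy2 _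
  let φ : C →* MulAut (Multiplicative E) := MonoidHom.mk'
    (fun d => AddEquiv.toMultiplicative (DistribMulAction.toAddEquiv E (d : D)))
    (fun a b => MulEquiv.ext fun e => congrArg Multiplicative.ofAdd (mul_smul (a : D) (b : D) e.toAdd))
  have hG : CfsgLib.Zassenhaus.HasFpf C := CfsgLib.Zassenhaus.HasFpf.of_mulAut φ fun d hd e he => by
    have he' : (d : D) • e.toAdd = e.toAdd := congrArg Multiplicative.toAdd he
    by_contra he1
    have hv : e.toAdd ≠ 0 := fun h => he1 (Multiplicative.toAdd.injective h)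
    obtain ⟨a, b, hab⟩ := comm_form hcard hx (Subgroup.mem_centralizer_singleton_iff.1 d.2)
    have h3 := hab e.toAdd
    rw [he'] at h3
    by_cases hb : b = 0
    · subst hb
      rw [zero_smul, add_zero] at h3
      have ha : a = 1 := smul_left_injective F hv (by simp only; rw [← h3, one_smul])
      exact hd (Subtype.ext (eq_of_smul_eq_smul fun w : E => by
        rw [hab, ha, zero_smul, add_zero, one_smul, Subgroup.coe_one, one_smul]))
    · refine no_fixed hcard hp h2 hD hxr hx hrF hv (b⁻¹ * (1 - a)) ?_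
      have h4 : b • x • e.toAdd = (1 - a) • e.toAdd := by rw [sub_smul, one_smul, eq_sub_iff_add_eq']; exact h3.symm
      rw [mul_smul, ← h4, smul_smul, inv_mul_cancel₀ hb, one_smul]
  haveI hcyc : IsCyclic (⊤ : Subgroup C) := hG.isCyclic_of_comm fun a _ b _ =>
    Subtype.ext (comm_comm hcard hx a.2 b.2)
  haveI : IsCyclic C := isCyclic_of_surjective Subgroup.topEquiv.toMonoidHom Subgroup.topEquiv.surjective
  have hset : ∀ a : C, a ^ r = 1 → a ∈ Subgroup.zpowers (⟨x, hxC⟩ : C) := by
    haveI := Fintype.ofFinite C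
    intro a ha
    have hsub : (Finset.univ.filter fun u : C => u ∈ Subgroup.zpowers (⟨x, hxC⟩ : C)) =
        Finset.univ.filter fun u : C => u ^ r = 1 := by
      refine Finset.eq_of_subset_of_card_le (fun u hu => ?_) ?_
      · simp only [Finset.mem_filter, Finset.mem_univ, true_and] at hu ⊢
        obtain ⟨k, rfl⟩ := Subgroup.mem_zpowers_iff.1 hu
        rw [← zpow_natCast, ← zpow_mul, mul_comm, zpow_mul, zpow_natCast,
          show (⟨x, hxC⟩ : C) ^ r = 1 from Subtype.ext (by simp [← hxr, pow_orderOf_eq_one]), one_zpow]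
      · refine (IsCyclic.card_pow_eq_one_le hr.out.pos).trans (le_of_eq ?_)
        rw [← Fintype.card_subtype, ← Nat.card_eq_fintype_card]
        exact (hxr.symm.trans (Subgroup.orderOf_mk x hxC).symm).trans (Nat.card_zpowers _).symm
    have : a ∈ Finset.univ.filter fun u : C => u ^ r = 1 := by simp [ha]
    rw [← hsub] at this
    simpa using this
  obtain ⟨k, hk⟩ := Subgroup.mem_zpowers_iff.1 (hset ⟨y, hmem y hyr⟩ (Subtype.ext hyr))
  exact Subgroup.mem_zpowers_iff.2 ⟨k, congrArg Subtype.val hk⟩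

end PlaneField

variable {D E : Type*} [Group D] [Finite D] [AddCommGroup E] [Finite E] [DistribMulAction D E] [FaithfulSMul D E]
  {p : ℕ} [Fact p.Prime]

theorem exists_normal_of_plane (hp2 : p ≠ 2) (hE : ∀ e : E, p • e = 0) (hD : ¬ p ∣ Nat.card D)
    (A : Subgroup D) [A.Normal] {F : Type} [Field F] [Fintype F] (φ : F →+* AddMonoid.End E)
    (hinj : ∀ f : F, f ≠ 0 → Function.Injective (φ f)) (σ : D →* (F ≃+* F))
    (hsemi : ∀ (g : D) (f : F) (v : E), g • φ f v = φ (σ g f) (g • v))
    (hker : σ.ker = Subgroup.centralizer (A : Set D)) (hcard : Nat.card F ^ 2 = Nat.card E)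
    {r : ℕ} [Fact r.Prime] (hr : 5 ≤ r) (h35 : r ≠ 5 ∨ ¬ 3 ∣ Nat.card D) (hrD : r ∣ Nat.card D)
    (hrF : ¬ r ∣ Nat.card F - 1) (hrA : ∀ x : D, orderOf x = r → x ∈ Subgroup.centralizer (A : Set D)) :
    ∃ x : D, orderOf x = r ∧ (Subgroup.zpowers x).Normal := by
  letI : Module F E := Module.compHom E φ
  set C := Subgroup.centralizer (A : Set D) with hC
  haveI : SMulCommClass C F E := ⟨fun g f v => by
    show (g : D) • φ f v = φ f ((g : D) • v)
    rw [hsemi, MonoidHom.mem_ker.1 ((SetLike.ext_iff.1 hker _).2 g.2 : (g : D) ∈ σ.ker)]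
    rfl⟩
  haveI : FaithfulSMul C E := ⟨fun h => Subtype.ext (eq_of_smul_eq_smul h)⟩
  haveI : Nontrivial E := Finite.one_lt_card_iff_nontrivial.1
    (by rw [← hcard]; exact Nat.one_lt_pow two_ne_zero Finite.one_lt_card)
  obtain ⟨v, hv⟩ := exists_ne (0 : E)
  have hp : (p : F) = 0 := by
    by_contra h
    refine hv (hinj _ h ?_)
    rw [map_zero]
    show φ (p : F) v = 0
    rw [map_natCast]
    exact hE v
  have h2 : (2 : F) ≠ 0 := by
    intro h
    have hc : Nat.Coprime 2 p := (Nat.coprime_primes Nat.prime_two Fact.out).2 hp2.symm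
    obtain ⟨a, b, hab⟩ := Nat.isCoprime_iff_coprime.2 hc
    have := congrArg (fun z : ℤ => (z : F)) hab
    push_cast at this
    rw [h, hp, mul_zero, mul_zero, add_zero] at this
    exact zero_ne_one this
  obtain ⟨x, hx⟩ := exists_prime_orderOf_dvd_card' r hrD
  refine ⟨x, hx, ⟨fun u hu g => ?_⟩⟩
  have hur : (g * u * g⁻¹) ^ r = 1 := by
    obtain ⟨k, rfl⟩ := Subgroup.mem_zpowers_iff.1 hu
    rw [conj_pow, ← zpow_natCast, ← zpow_mul, mul_comm k, zpow_mul, zpow_natCast, ← hx,
      pow_orderOf_eq_one, one_zpow, mul_one, mul_inv_cancel]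
  have hxC : x ∈ C := hrA x hx
  have hgC : g * u * g⁻¹ ∈ C := by
    have : C.Normal := Subgroup.normal_centralizer
    exact this.conj_mem u ((Subgroup.zpowers_le.2 hxC) hu) g
  have hCd : Nat.card C ∣ Nat.card D := Subgroup.card_subgroup_dvd_card C
  obtain ⟨k, hk⟩ := Subgroup.mem_zpowers_iff.1 (PlaneField.mem_zpowers_of_orderOf (D := C) (F := F)
    hcard.symm hp h2 (fun h => hD (h.trans hCd)) hr (h35.imp_right fun h h' => h (h'.trans hCd))
    hrF (x := ⟨x, hxC⟩) (by rw [Subgroup.orderOf_mk, hx]) (y := ⟨_, hgC⟩) (Subtype.ext hur))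
  exact Subgroup.mem_zpowers_iff.2 ⟨k, congrArg Subtype.val hk⟩

end CfsgLib.KgvTrans
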