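import Cfsg.Agent.Lib.KgvTrans.Defs
import Cfsg.Agent.Lib.Semilinear.NormalAbelian

/-!
# A self-centralising normal abelian subgroup: few classes

If a coprime transitive linear group has a normal abelian subgroup equal to its centraliser, it is
semilinear in dimension one and the commuting pairs can be counted.
-/

set_option autoImplicit false

open MulAction

namespace CfsgLib.KgvTrans

/-- The numerical core: the fixed subfield of a non-trivial automorphism is small. -/
theorem bound_or_exception {p n d l B : ℕ} (hp : p.Prime) (hd : 2 ≤ d) (hdn : d ∣ n) (hn : 0 < n)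
    (hld : l ∣ d) (hl : 2 ≤ l) (hpd : ¬ p ∣ d) (hB : B ^ l ≤ p ^ n) :
    B * (d + 1) < p ^ n ∨ (p ^ n = 8 ∧ d = 3) ∨ (p ^ n = 9 ∧ d = 2) := by
  have hp2 := hp.two_le
  by_contra h
  push Not at h
  obtain ⟨hle, h8, h9⟩ := h
  have hdn' : d ≤ n := Nat.le_of_dvd hn hdn
  have hq : 0 < p ^ n := pow_pos hp.pos n
  have key : (p ^ n) ^ (l - 1) ≤ (d + 1) ^ l := by
    refine Nat.le_of_mul_le_mul_left ?_ hq
    calc p ^ n * (p ^ n) ^ (l - 1) = (p ^ n) ^ l := by rw [← pow_succ', Nat.sub_add_cancel (by omega)]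
      _ ≤ (B * (d + 1)) ^ l := Nat.pow_le_pow_left hle l
      _ = B ^ l * (d + 1) ^ l := mul_pow _ _ _
      _ ≤ p ^ n * (d + 1) ^ l := Nat.mul_le_mul_right _ hB
  rcases Nat.eq_or_lt_of_le hl with h2 | h3
  · subst h2
    have hp3 : 3 ≤ p := by
      rcases Nat.eq_or_lt_of_le hp2 with h | h
      · exact absurd (h ▸ hld) hpd
      · omega
    simp only [show 2 - 1 = 1 from rfl, pow_one] at key
    have hgrow : ∀ i, (i + 4) ^ 2 < 3 ^ (i + 3) := by
      intro i
      induction i with
      | zero => norm_num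
      | succ i ih => rw [pow_succ 3 (i + 3)]; nlinarith
    rcases Nat.lt_or_ge d 3 with hd2 | hd3
    · have hd' : d = 2 := by omega
      subst hd'
      refine h9 (le_antisymm (by simpa using key) ?_) rfl
      calc 9 = 3 ^ 2 := by norm_num
        _ ≤ p ^ 2 := Nat.pow_le_pow_left hp3 2
        _ ≤ p ^ n := Nat.pow_le_pow_right hp.pos hdn'
    · obtain ⟨i, rfl⟩ := Nat.exists_eq_add_of_le hd3
      have h1 : 3 ^ (3 + i) ≤ p ^ n :=
        (Nat.pow_le_pow_left hp3 _).trans (Nat.pow_le_pow_right hp.pos hdn')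
      have h2 := hgrow i
      rw [show i + 3 = 3 + i by omega, show i + 4 = 3 + i + 1 by omega] at h2
      omega
  · have hd3 : 3 ≤ d := le_trans h3 (Nat.le_of_dvd (by omega) hld)
    have key2 : (p ^ n) ^ 2 ≤ (d + 1) ^ 3 := by
      refine (Nat.pow_le_pow_iff_left (show l ≠ 0 by omega)).mp ?_
      calc ((p ^ n) ^ 2) ^ l = (p ^ n) ^ (2 * l) := (pow_mul _ _ _).symm
        _ ≤ (p ^ n) ^ ((l - 1) * 3) := Nat.pow_le_pow_right hq (by omega)
        _ = ((p ^ n) ^ (l - 1)) ^ 3 := pow_mul _ _ _
        _ ≤ ((d + 1) ^ l) ^ 3 := Nat.pow_le_pow_left key 3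
        _ = ((d + 1) ^ 3) ^ l := by rw [← pow_mul, ← pow_mul, mul_comm]
    have hgrow : ∀ i, (i + 5) ^ 3 < (2 ^ (i + 4)) ^ 2 := by
      intro i
      induction i with
      | zero => norm_num
      | succ i ih =>
        have h6 : (i + 1 + 5) ^ 3 ≤ 4 * (i + 5) ^ 3 := by
          nlinarith [Nat.zero_le (i ^ 3), Nat.zero_le (i ^ 2), Nat.zero_le i]
        rw [show i + 1 + 4 = i + 4 + 1 by omega, pow_succ 2 (i + 4), mul_pow]
        omega
    have hpn : 2 ^ d ≤ p ^ n :=
      (Nat.pow_le_pow_left hp2 _).trans (Nat.pow_le_pow_right hp.pos hdn')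
    rcases Nat.lt_or_ge d 4 with hd4 | hd4
    · have hd' : d = 3 := by omega
      subst hd'
      refine h8 (le_antisymm ?_ (le_trans (by norm_num) hpn)) rfl
      exact (Nat.pow_le_pow_iff_left two_ne_zero).mp (key2.trans (by norm_num))
    · obtain ⟨i, rfl⟩ := Nat.exists_eq_add_of_le hd4
      have h2 := hgrow i
      have h1 : (2 ^ (4 + i)) ^ 2 ≤ (p ^ n) ^ 2 := Nat.pow_le_pow_left hpn 2
      rw [show i + 4 = 4 + i by omega, show i + 5 = 4 + i + 1 by omega] at h2
      omega

section

variable {G : Type*} [Group G] [Finite G]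

/-- Counting commuting pairs over a normal subgroup with small centralisers outside. -/
theorem classes_mul_card_le {H : Type*} [Group H] [Finite H] (σ : G →* H) {s : ℕ}
    (hs : ∀ g, σ g ≠ 1 → Nat.card {a : G // σ a = 1 ∧ Commute g a} ≤ s) :
    Nat.card (ConjClasses G) * Nat.card G ≤
      Nat.card σ.ker * Nat.card σ.ker
        + (Nat.card G - Nat.card σ.ker) * (s * (Nat.card σ.range + 1)) := by
  classical
  let : Fintype G := Fintype.ofFinite G
  let : Fintype H := Fintype.ofFinite H
  set S := Finset.univ.filter (fun g : G => σ g = 1) with hS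
  set T := Finset.univ.filter (fun g : G => ¬ σ g = 1) with hT
  have hSc : S.card = Nat.card σ.ker := by
    rw [hS, ← Fintype.card_subtype, ← Nat.card_eq_fintype_card]; rfl
  have hTc : T.card = Nat.card G - Nat.card σ.ker := by
    rw [← hSc, hT, hS, Nat.card_eq_fintype_card, ← Finset.card_univ,
      ← Finset.card_filter_add_card_filter_not (s := (Finset.univ : Finset G)) (fun g => σ g = 1)]
    omega
  have hsT : ∀ g ∈ T, (S.filter (fun a => Commute g a)).card ≤ s := fun g hg => by
    refine le_trans (le_of_eq ?_) (hs g (Finset.mem_filter.mp hg).2)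
    rw [Nat.card_eq_fintype_card, Fintype.card_subtype, hS, Finset.filter_filter]
  have hpairs : Nat.card (ConjClasses G) * Nat.card G
      = ∑ g : G, (Finset.univ.filter (fun h => Commute g h)).card := by
    rw [← card_comm_eq_card_conjClasses_mul_card,
      Nat.card_congr (Equiv.subtypeProdEquivSigmaSubtype (fun a b : G => Commute a b)),
      Nat.card_sigma]
    exact Finset.sum_congr rfl fun g _ => by rw [Nat.card_eq_fintype_card, Fintype.card_subtype]
  rw [hpairs, ← Finset.sum_filter_add_sum_filter_not Finset.univ (fun g : G => σ g = 1), ← hS, ← hT]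
  have h1 : ∑ g ∈ S, (Finset.univ.filter (fun h => Commute g h)).card
      ≤ Nat.card σ.ker * Nat.card σ.ker + (Nat.card G - Nat.card σ.ker) * s := by
    have hsplit : ∀ g, (Finset.univ.filter (fun h => Commute g h)).card
        ≤ S.card + (T.filter (fun h => Commute g h)).card := fun g => by
      refine le_trans (Finset.card_le_card fun h hh => ?_) (Finset.card_union_le _ _)
      by_cases h0 : σ h = 1
      · exact Finset.mem_union_left _ (by simp [hS, h0])
      · exact Finset.mem_union_right _ (by simpa [hT, h0] using hh)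
    refine le_trans (Finset.sum_le_sum fun g _ => hsplit g) ?_
    rw [Finset.sum_add_distrib, Finset.sum_const, smul_eq_mul, hSc]
    refine Nat.add_le_add_left ?_ _
    rw [show ∑ g ∈ S, (T.filter (fun h => Commute g h)).card
        = ∑ h ∈ T, (S.filter (fun g => Commute g h)).card from
      Finset.sum_card_bipartiteAbove_eq_sum_card_bipartiteBelow (fun g h : G => Commute g h), ← hTc]
    refine Finset.sum_le_card_nsmul _ _ _ fun h hh => ?_
    rw [Finset.filter_congr (fun a _ => (⟨Commute.symm, Commute.symm⟩ : Commute a h ↔ Commute h a))]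
    exact hsT h hh
  have h2 : ∑ g ∈ T, (Finset.univ.filter (fun h => Commute g h)).card
      ≤ (Nat.card G - Nat.card σ.ker) * (s * Nat.card σ.range) := by
    rw [← hTc]
    refine Finset.sum_le_card_nsmul _ _ _ fun g hg => ?_
    set U := Finset.univ.filter (fun h => Commute g h) with hU
    refine le_trans (Finset.card_le_mul_card_image (f := fun x => σ x) U s fun b hb => ?_) (Nat.mul_le_mul_left s ?_)
    · obtain ⟨h₀, h₀U, rfl⟩ := Finset.mem_image.mp hb
      refine le_trans ?_ (hsT g hg)
      refine Finset.card_le_card_of_injOn (fun h => h₀⁻¹ * h) (fun h hh => ?_)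
        (fun a _ b _ h => mul_left_cancel h)
      simp only [Finset.mem_coe, Finset.mem_filter, hU, hS, Finset.mem_univ, true_and] at hh h₀U ⊢
      exact ⟨by rw [map_mul, map_inv, hh.2, inv_mul_cancel], h₀U.inv_right.mul_right hh.1⟩
    · refine le_trans (Finset.card_le_card (t := Finset.univ.filter (fun x => x ∈ σ.range)) ?_) ?_
      · intro x hx
        obtain ⟨h, _, rfl⟩ := Finset.mem_image.mp hx
        simp
      · rw [← Fintype.card_subtype, ← Nat.card_eq_fintype_card]
  calc _ ≤ (Nat.card σ.ker * Nat.card σ.ker + (Nat.card G - Nat.card σ.ker) * s)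
        + (Nat.card G - Nat.card σ.ker) * (s * Nat.card σ.range) := Nat.add_le_add h1 h2
    _ = _ := by ring

end

variable {D E : Type*} [Group D] [Finite D] [AddCommGroup E] [Finite E] [DistribMulAction D E]
  [FaithfulSMul D E] {p : ℕ} [Fact p.Prime]

/-- A coprime transitive group with a self-centralising normal abelian subgroup has few classes. -/
theorem small_of_selfcent (hE : ∀ e : E, p • e = 0) {n : ℕ} (hn : 2 ≤ n)
    (hcard : Nat.card E = p ^ n) (hD : ¬ p ∣ Nat.card D)
    (htrans : ∀ a b : E, a ≠ 0 → b ≠ 0 → ∃ d : D, d • a = b) (A : Subgroup D) [A.Normal]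
    (hA : ∀ a ∈ A, ∀ b ∈ A, a * b = b * a) (hC : Subgroup.centralizer (A : Set D) ≤ A) :
    Small D E := by
  classical
  have hp : p.Prime := Fact.out
  have hq2 : 2 ≤ p ^ n := le_trans hp.two_le (Nat.le_self_pow (by omega) p)
  have hnt : Nontrivial E := Finite.one_lt_card_iff_nontrivial.mp (hcard ▸ hq2)
  have hfaith : ∀ g : D, (∀ v : E, g • v = v) → g = 1 := fun g hg =>
    FaithfulSMul.eq_of_smul_eq_smul fun v : E => by rw [hg, one_smul]
  obtain ⟨F, _, _, φ, σ, ι, hinj, hsemi, hι, hker⟩ :=
    Semilinear.exists_field_of_abelian_normal htrans hfaith A hA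
  have hkerA : σ.ker = A := le_antisymm (hker ▸ hC) (fun a ha => by
    rw [hker, Subgroup.mem_centralizer_iff]; exact fun b hb => hA b hb a ha)
  have hiota : Function.Injective ι := (injective_iff_map_eq_one ι).mpr fun a ha =>
    Subtype.ext (hfaith _ fun v => by rw [← hι, ha, map_one]; rfl)
  -- the field has characteristic `p` and `E` is a line over it
  have : Nontrivial (AddMonoid.End E) := ⟨⟨1, 0, fun h => by
    obtain ⟨w, hw⟩ := exists_ne (0 : E)
    exact hw (DFunLike.congr_fun h w)⟩⟩
  have : Finite (F ≃+* F) :=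
    Finite.of_injective (fun f : F ≃+* F => (f : F → F)) DFunLike.coe_injective
  have : CharP F p := by
    exact (CharP.charP_iff_prime_eq_zero hp).mpr (φ.injective (by
      rw [map_natCast, map_zero]
      ext v
      simpa using hE v))
  obtain ⟨e, -, hFe⟩ := FiniteField.card F p
  obtain ⟨hcyc, hAut⟩ := Semilinear.isCyclic_ringEquiv_and_card (F := F) hFe
  have hne : (e : ℕ) = n := by
    let : Module F E := Module.compHom E φ
    have : Module.Finite F E := Module.Finite.of_finite
    have h1 := Module.natCard_eq_pow_finrank (K := F) (V := E)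
    rw [hcard, Nat.card_eq_fintype_card, hFe, ← pow_mul] at h1
    have h2 : n = e * Module.finrank F E := Nat.pow_right_injective hp.two_le h1
    have hA1 : Nat.card A ≤ p ^ (e : ℕ) - 1 := by
      rw [← hFe, ← Nat.card_eq_fintype_card, ← Nat.card_units]
      exact Nat.card_le_card_of_injective (fun a => ι.toHomUnits a)
        (fun a b h => hiota (congrArg Units.val h))
    have hd1 : Nat.card σ.range ≤ e := hAut ▸ Nat.card_le_card_of_injective
      (fun x : σ.range => (x : F ≃+* F)) Subtype.val_injective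
    have hDm : Nat.card D = Nat.card A * Nat.card σ.range := by
      rw [← Subgroup.index_ker, hkerA, Subgroup.card_mul_index]
    obtain ⟨v, hv⟩ := exists_ne (0 : E)
    have horb : p ^ n - 1 ≤ Nat.card D := by
      rw [← hcard]
      have : ({0} : Set E)ᶜ ⊆ Set.range (fun g : D => g • v) := fun w hw => htrans v w hv hw
      have h3 := Set.ncard_le_ncard this
      rw [Set.ncard_compl, Set.ncard_singleton] at h3
      exact h3.trans (by rw [← Nat.card_coe_set_eq]; exact Finite.card_range_le _)
    rcases Nat.lt_or_ge (Module.finrank F E) 2 with h | h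
    · have : Module.finrank F E = 1 := by
        rcases Nat.eq_zero_or_pos (Module.finrank F E) with h0 | h0
        · rw [h0, mul_zero] at h2; omega
        · omega
      rw [this, mul_one] at h2
      exact h2.symm
    · exfalso
      have hb : p ^ ((e : ℕ) * 2) ≤ p ^ n := Nat.pow_le_pow_right hp.pos (by rw [h2]; exact Nat.mul_le_mul_left _ h)
      rw [pow_mul, sq] at hb
      have h4 : Nat.card D ≤ (p ^ (e : ℕ) - 1) * e := hDm ▸ Nat.mul_le_mul hA1 hd1
      have h5 : (e : ℕ) < p ^ (e : ℕ) := Nat.lt_pow_self hp.one_lt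
      obtain ⟨X, hX⟩ : ∃ X, p ^ (e : ℕ) = X + 1 := ⟨p ^ (e : ℕ) - 1, by omega⟩
      rw [hX] at hb h4 h5
      simp only [Nat.add_sub_cancel] at h4
      have h6 : X * (e : ℕ) ≤ X * X := Nat.mul_le_mul_left _ (by omega)
      have := e.pos
      have h7 : (X + 1) * (X + 1) = X * X + 2 * X + 1 := by ring
      omega
  -- numerical data
  intro v hv
  set c := Nat.card (stabilizer D v)
  set d := Nat.card σ.range with hd
  set m := Nat.card σ.ker with hm
  have hmd : m * d = Nat.card D := by
    rw [hm, hd, ← Subgroup.index_ker, Subgroup.card_mul_index]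
  have horb : (p ^ n - 1) * c = Nat.card D := by
    have h : orbit D v = ({0} : Set E)ᶜ := by
      ext w
      refine ⟨?_, fun hw => htrans v w hv hw⟩
      rintro ⟨g, rfl⟩ h0
      exact hv (smul_left_cancel g (h0.trans (smul_zero g).symm))
    have h1 := MulAction.index_stabilizer D v
    rw [h, Set.ncard_compl, Set.ncard_singleton, hcard] at h1
    rw [← h1, mul_comm, Subgroup.card_mul_index]
  have hcd : c ∣ d := by
    refine Subgroup.card_dvd_of_injective (σ.rangeRestrict.comp (stabilizer D v).subtype)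
      ((injective_iff_map_eq_one _).mpr fun g hg => ?_)
    have hgA : (g : D) ∈ A := hkerA ▸ (congrArg Subtype.val hg : σ (g : D) = 1)
    have h1 : φ (ι ⟨g, hgA⟩ - 1) v = 0 := by
      rw [map_sub, map_one]
      show φ (ι ⟨g, hgA⟩) v - v = 0
      rw [hι, show (g : D) • v = v from g.2, sub_self]
    have h2 : ι ⟨g, hgA⟩ = 1 := by
      by_contra hne'
      exact hv (hinj _ (sub_ne_zero.mpr hne') (h1.trans (map_zero _).symm))
    have h3 : ((⟨g, hgA⟩ : A) : D) = ((1 : A) : D) :=
      congrArg Subtype.val (hiota (h2.trans (map_one ι).symm))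
    exact Subtype.ext h3
  have hdn : d ∣ n := hne ▸ hAut ▸ Subgroup.card_subgroup_dvd_card σ.range
  rcases Nat.lt_or_ge d 2 with hd1 | hd2
  · exact Or.inl (Nat.eq_one_of_dvd_one (by
      have : d = 1 := by have : 0 < d := Nat.card_pos; omega
      exact this ▸ hcd))
  -- the largest centraliser in the kernel
  let : Fintype D := Fintype.ofFinite D
  have hout : (Finset.univ.filter (fun g : D => σ g ≠ 1)).Nonempty := by
    by_contra h
    rw [Finset.not_nonempty_iff_eq_empty, Finset.filter_eq_empty_iff] at h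
    have hr : σ.range = ⊥ := MonoidHom.range_eq_bot_iff.mpr
      (MonoidHom.ext fun g => not_not.mp (h (Finset.mem_univ g)))
    rw [hd, hr, Subgroup.card_bot] at hd2
    omega
  obtain ⟨g₀, hg₀, hmax⟩ := Finset.exists_max_image _
    (fun g : D => Nat.card {a : D // σ a = 1 ∧ Commute g a}) hout
  rw [Finset.mem_filter] at hg₀
  set s := Nat.card {a : D // σ a = 1 ∧ Commute g₀ a}
  have hcount := classes_mul_card_le σ (s := s) fun g hg => hmax g (by simpa using hg)
  rw [← hm, ← hd] at hcount
  set τ := σ g₀ with hτ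
  have hB : (s + 1) ^ orderOf τ ≤ p ^ n := by
    let H := Subgroup.zpowers τ
    let : Fintype H := Fintype.ofFinite H
    have : FaithfulSMul H F := ⟨fun {a b} h => Subtype.ext (RingEquiv.ext h)⟩
    let K := FixedPoints.subfield H F
    have h1 := Module.natCard_eq_pow_finrank (K := K) (V := F)
    rw [FixedPoints.finrank_eq_card, ← Nat.card_eq_fintype_card (α := H), Nat.card_zpowers,
      Nat.card_eq_fintype_card (α := F), hFe, hne] at h1
    rw [h1]
    refine Nat.pow_le_pow_left ?_ _
    have hfix : ∀ x : {a : D // σ a = 1 ∧ Commute g₀ a},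
        τ (ι ⟨x.1, hkerA ▸ x.2.1⟩) = ι ⟨x.1, hkerA ▸ x.2.1⟩ := by
      intro x
      obtain ⟨w, hw⟩ := exists_ne (0 : E)
      have hgw : g₀ • w ≠ 0 := fun h => hw (smul_left_cancel g₀ (h.trans (smul_zero g₀).symm))
      have hs := hsemi g₀ (ι ⟨x.1, hkerA ▸ x.2.1⟩) w
      rw [hι, ← mul_smul, x.2.2.eq, mul_smul, ← hι ⟨x.1, hkerA ▸ x.2.1⟩] at hs
      by_contra hne'
      refine hgw (hinj _ (sub_ne_zero.mpr hne') ?_)
      rw [map_sub, map_zero]
      exact sub_eq_zero.mpr hs.symm
    have hmem : ∀ y : F, τ y = y → y ∈ K := fun y hy h => by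
      have : (h : F ≃+* F) ∈ stabilizer (F ≃+* F) y :=
        (Subgroup.zpowers_le.mpr (show τ ∈ stabilizer (F ≃+* F) y from hy)) h.2
      exact this
    refine le_of_eq_of_le (Finite.card_option).symm ?_
    refine Nat.card_le_card_of_injective
      (fun o => o.elim (0 : K) fun x => ⟨_, hmem _ (hfix x)⟩) ?_
    rintro (_ | a) (_ | b) h
    · rfl
    · exact absurd (congrArg Subtype.val h).symm (ι.toHomUnits ⟨b.1, hkerA ▸ b.2.1⟩).ne_zero
    · exact absurd (congrArg Subtype.val h) (ι.toHomUnits ⟨a.1, hkerA ▸ a.2.1⟩).ne_zero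
    · exact congrArg some (Subtype.ext (congrArg Subtype.val (hiota (congrArg Subtype.val h)) : _))
  have hl : 2 ≤ orderOf τ := by
    have h0 : 0 < orderOf τ := orderOf_pos τ
    have h1 : orderOf τ ≠ 1 := fun h => hg₀.2 (orderOf_eq_one_iff.mp h)
    omega
  have hld : orderOf τ ∣ d := Subgroup.orderOf_dvd_natCard σ.range ⟨g₀, rfl⟩
  have hpd : ¬ p ∣ d := fun h => hD (h.trans (hmd ▸ dvd_mul_left d m))
  have hcle : c ≤ d := Nat.le_of_dvd (by omega) hcd
  rcases bound_or_exception hp hd2 hdn (by omega) hld hl hpd hB with hsmall | hex | hex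
  · refine Or.inr (Or.inl ?_)
    rw [hcard]
    set k := Nat.card (ConjClasses D)
    rw [← hmd] at hcount horb
    have hm0 : 0 < m := Nat.card_pos
    obtain ⟨d', hd'⟩ : ∃ d', d = d' + 1 := ⟨d - 1, by omega⟩
    rw [hd'] at hcount hcle hsmall horb
    rw [show m * (d' + 1) - m = m * d' by rw [mul_add, mul_one, Nat.add_sub_cancel]] at hcount
    have hkd : k * (d' + 1) ≤ m + d' * (s * (d' + 2)) := by
      refine Nat.le_of_mul_le_mul_left (?_ : m * (k * (d' + 1)) ≤ m * (m + d' * (s * (d' + 2)))) hm0
      linarith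
    have hmq : m ≤ p ^ n - 1 := by
      refine Nat.le_of_mul_le_mul_right (?_ : m * (d' + 1) ≤ (p ^ n - 1) * (d' + 1)) (by omega)
      exact horb ▸ Nat.mul_le_mul_left _ hcle
    by_contra hk
    push Not at hk
    obtain ⟨Q, hQ⟩ : ∃ Q, p ^ n = Q + 1 := ⟨p ^ n - 1, by omega⟩
    rw [hQ] at hk hsmall hmq
    simp only [Nat.add_sub_cancel] at hmq
    nlinarith [Nat.mul_le_mul_right (d' + 1) hk, Nat.mul_le_mul_right (d' + 1) hcle,
      Nat.mul_lt_mul_of_pos_right hsmall (show 0 < d' by omega)]
  all_goals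
    obtain ⟨hq, hd'⟩ := hex
    rcases (Nat.dvd_prime (hd'.symm ▸ (by norm_num : Nat.Prime _))).mp hcd with h1 | h1
    · exact Or.inl h1
    · rw [hcard, hq, ← horb, hq, h1, hd']
      norm_num

end CfsgLib.KgvTrans
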