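import Cfsg.Agent.Lib.KgvTrans.Defs
import Cfsg.Agent.Lib.Char.Basic
import Cfsg.Agent.S0899
import Cfsg.Agent.S4503
import Cfsg.Agent.S4504

/-!
# Normal Sylow subgroups for large primes in groups with a small faithful representation
-/

set_option autoImplicit false
set_option linter.style.haveILetI false

namespace CfsgLib.KgvTrans

open Matrix in
/-- Three divides the order of `PSL₂` of a finite field. -/
theorem three_dvd_card_PSL_two (F : Type*) [Field F] [Finite F] :
    3 ∣ Nat.card (ProjectiveSpecialLinearGroup (Fin 2) F) := by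
  let g : Matrix.SpecialLinearGroup (Fin 2) F := ⟨!![0, 1; -1, -1], by simp [Matrix.det_fin_two]⟩
  have h3 : g ^ 3 = 1 := by
    refine Subtype.ext ?_
    show (!![0, 1; -1, -1] : Matrix (Fin 2) (Fin 2) F) ^ 3 = 1
    rw [pow_succ, pow_succ, pow_one]
    ext i j
    fin_cases i <;> fin_cases j <;> simp [Matrix.mul_apply, Fin.sum_univ_two]
  haveI : Fact (Nat.Prime 3) := ⟨Nat.prime_three⟩
  have h1 : (QuotientGroup.mk g : ProjectiveSpecialLinearGroup (Fin 2) F) ≠ 1 := by
    intro h
    obtain ⟨c, -, hc⟩ := Matrix.SpecialLinearGroup.mem_center_iff.mp ((QuotientGroup.eq_one_iff g).mp h)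
    have h01 := congrFun (congrFun hc 0) 1
    simp [g, Matrix.scalar_apply] at h01
  have h := orderOf_dvd_natCard (QuotientGroup.mk g : ProjectiveSpecialLinearGroup (Fin 2) F)
  rwa [orderOf_eq_prime (p := 3) (by rw [← QuotientGroup.mk_pow, h3]; rfl) h1] at h

/-- A faithful representation of degree `m` makes the Sylow subgroups for primes above `2m + 1`
normal, and also for `2m + 1` itself when `3` does not divide the order. -/
theorem sylow_normal_of_degree {G : Type*} [Group G] [Finite G] {m : ℕ}
    (ρ : Representation ℂ G (Fin m → ℂ)) (hρ : Function.Injective ρ) {r : ℕ} [Fact r.Prime]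
    (hr : 2 * m + 1 < r ∨ (2 * m + 1 = r ∧ ¬ 3 ∣ Nat.card G ∧ 5 ≤ r)) (P : Sylow r G) :
    (P : Subgroup G).Normal := by
  have hrp : r.Prime := Fact.out
  have hr1 : m + 1 < r := by rcases hr with h | ⟨h, -, h5⟩ <;> omega
  refine Cfsg.Agent.S0899.result m ρ hρ r (Or.inr ⟨hr1, fun K hK Q => ?_⟩) P
  obtain ⟨k, hk⟩ := Q.isPGroup'.exists_card_eq
  have hkle : k ≤ 1 := by
    by_contra hk2
    apply hK
    refine (pow_dvd_pow r (show 2 ≤ k by omega)).trans ?_
    exact hk ▸ Subgroup.card_subgroup_dvd_card _
  by_cases hrK : r ∣ Nat.card K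
  swap
  · have hQ : (Q : Subgroup K) = ⊥ := by
      apply Subgroup.card_eq_one.mp
      rcases Nat.eq_zero_or_pos k with hk0 | hk0
      · rw [hk, hk0, pow_zero]
      · exact absurd ((dvd_pow_self r hk0.ne').trans (hk ▸ Subgroup.card_subgroup_dvd_card _)) hrK
    rw [hQ]; infer_instance
  obtain ⟨H, hH, hHc⟩ : ∃ H : Subgroup K, H.Normal ∧ Nat.card H = r := by
    by_contra hcon
    push Not at hcon
    let σ : Representation ℂ K (Fin m → ℂ) := MonoidHom.comp ρ K.subtype
    have hσ : Function.Injective σ := hρ.comp K.subtype_injective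
    have hdeg : Cfsg.charDegree σ.character = m :=
      (Char.degree_character σ).trans (Module.finrank_fin_fun ℂ)
    have hfaith : ∀ g : K, σ.character g = σ.character 1 → g = 1 := fun g hg =>
      hσ (((Char.character_eq_degree_iff σ g).mp (by rw [hg, Representation.char_one])).trans
        (map_one σ).symm)
    have h1 := Cfsg.Agent.S4503.result r hrp hrK hK hcon σ.character
      (Char.isCharacter_character σ) hfaith
    rw [hdeg] at h1
    rcases hr with h | ⟨h, h3, -⟩
    · omega
    · obtain ⟨e⟩ := Cfsg.Agent.S4504.result r hrp hrK hK hcon σ.character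
        (Char.isCharacter_character σ) hfaith (by rw [hdeg]; exact h)
      refine h3 (((three_dvd_card_PSL_two (ZMod r)).trans ?_).trans (Subgroup.card_subgroup_dvd_card K))
      rw [← Nat.card_congr e.toEquiv]
      exact Subgroup.card_quotient_dvd_card _
  haveI := hH
  have hHp : IsPGroup r H := IsPGroup.of_card (n := 1) (by rw [hHc, pow_one])
  have hle : H ≤ (Q : Subgroup K) := by
    rw [← Q.is_maximal' (Q.isPGroup'.to_sup_of_normal_right hHp) le_sup_left]
    exact le_sup_right
  have heq : H = (Q : Subgroup K) := by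
    refine Subgroup.eq_of_le_of_card_ge hle ?_
    rw [hk, hHc]
    exact le_of_le_of_eq (Nat.pow_le_pow_right hrp.pos hkle) (pow_one r)
  exact heq ▸ hH

end CfsgLib.KgvTrans
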