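import Cfsg.Agent.Lib.KgvTrans.Defs
import Cfsg.Agent.Lib.KgvTrans.Semilinear
import Cfsg.Agent.Lib.KgvTrans.Plane
import Cfsg.Agent.Lib.KgvTrans.PlaneField
import Cfsg.Agent.Lib.KgvTrans.EightyOne
import Cfsg.Agent.Lib.KgvTrans.SylowDegree
import Cfsg.Agent.Lib.KgvTrans.Arith
import Cfsg.Agent.Lib.KpRegular.Semilinear
import Cfsg.Agent.Lib.KpRegular.Arith
import Cfsg.Agent.Lib.OddTransitive.Fitting
import Cfsg.Agent.Lib.Semilinear.NormalAbelian

/-!
# A coprime linear group transitive on the nonzero vectors satisfies `Small`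
-/

set_option autoImplicit false
set_option linter.style.haveILetI false

namespace CfsgLib.KgvTrans

open MulAction CfsgLib.KpRegular

variable {D E : Type*} [Group D] [Finite D] [AddCommGroup E] [Finite E] [DistribMulAction D E]
  [FaithfulSMul D E] {p : ℕ} [hp : Fact p.Prime]

theorem nontrivial_of_card {n : ℕ} (hn : 0 < n) (hcard : Nat.card E = p ^ n) : Nontrivial E :=
  Finite.one_lt_card_iff_nontrivial.1 (hcard ▸ Nat.one_lt_pow hn.ne' hp.out.one_lt)

omit [Finite D] in
/-- On a line stabilisers are trivial. -/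
theorem small_line (hcard : Nat.card E = p) : Small D E := by
  intro v hv
  left
  have : Fact (Nat.card E).Prime := ⟨hcard.symm ▸ hp.out⟩
  have h : AddSubgroup.zmultiples v = ⊤ :=
    (AddSubgroup.zmultiples v).eq_bot_or_eq_top_of_prime_card.resolve_left (fun h => hv (by simpa using h))
  refine Subgroup.card_eq_one.2 ((Subgroup.eq_bot_iff_forall _).2 fun d hd => ?_)
  refine FaithfulSMul.eq_of_smul_eq_smul fun w : E => ?_
  obtain ⟨k, rfl⟩ := AddSubgroup.mem_zmultiples_iff.1 (h ▸ AddSubgroup.mem_top w)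
  rw [one_smul, show d • (k • v) = k • (d • v) from map_zsmul (DistribSMul.toAddMonoidHom E d) k v,
    MulAction.mem_stabilizer_iff.1 hd]

/-- A normal subgroup of primitive prime order gives a self-centralising cyclic normal subgroup. -/
theorem small_of_normal_prim (hE : ∀ e : E, p • e = 0) {n : ℕ} (hn : 2 ≤ n)
    (hcard : Nat.card E = p ^ n) (hD : ¬ p ∣ Nat.card D)
    (htrans : ∀ a b : E, a ≠ 0 → b ≠ 0 → ∃ d : D, d • a = b) {r : ℕ} [Fact r.Prime]
    (hrd : r ∣ p ^ n - 1) (hmin : ∀ k, 0 < k → k < n → ¬ r ∣ p ^ k - 1) {x : D}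
    (hx : orderOf x = r) (hnorm : (Subgroup.zpowers x).Normal) : Small D E := by
  haveI := nontrivial_of_card (E := E) (by omega) hcard
  have hcyc := OddTransitive.isCyclic_centralizer
    (eq_bot_or_top_of_invariant hE (show 0 < n by omega) hcard hrd hmin hx)
  set C := Subgroup.centralizer ({x} : Set D) with hC
  have hCn : C.Normal := by
    have h : C = Subgroup.centralizer ((Subgroup.zpowers x : Subgroup D) : Set D) := by
      rw [hC, Subgroup.zpowers_eq_closure, Subgroup.centralizer_closure]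
    rw [h]; infer_instance
  refine small_of_selfcent hE hn hcard hD htrans C
    (fun a ha b hb => congrArg Subtype.val (hcyc.commGroup.mul_comm ⟨a, ha⟩ ⟨b, hb⟩))
    fun g hg => ?_
  exact Subgroup.mem_centralizer_singleton_iff.2
    (Subgroup.mem_centralizer_iff.1 hg x (Subgroup.mem_centralizer_singleton_iff.2 rfl)).symm

/-- The characteristic two case: the group has odd order. -/
theorem small_two (hE : ∀ e : E, 2 • e = 0) {n : ℕ} (hn : 2 ≤ n) (hcard : Nat.card E = 2 ^ n)
    (hD : ¬ 2 ∣ Nat.card D) (htrans : ∀ a b : E, a ≠ 0 → b ≠ 0 → ∃ d : D, d • a = b) : Small D E := by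
  haveI : Fact (Nat.Prime 2) := ⟨Nat.prime_two⟩
  haveI := nontrivial_of_card (E := E) (p := 2) (by omega) hcard
  have hodd : Odd (Nat.card D) := Nat.odd_iff.2 (by omega)
  obtain ⟨hF, -, -⟩ := OddTransitive.fitting_structure hodd Nat.prime_two hE htrans
  haveI : Group.IsSolvable D := OddTransitive.isSolvable hodd hE htrans
  haveI : (Cfsg.fittingSubgroup D).Normal := Subgroup.sSup_normal _ fun N hN => hN.1
  exact small_of_selfcent hE hn hcard hD htrans (Cfsg.fittingSubgroup D)
    (fun a ha b hb => congrArg Subtype.val (hF.commGroup.mul_comm ⟨a, ha⟩ ⟨b, hb⟩))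
    CfsgLib.Components.centralizer_fitting_le_of_isSolvable

omit hp in
/-- The primitive part of `p ^ n - 1` divides `K` when every primitive prime does, simply. -/
theorem cyclotomicValue_dvd {p n K : ℕ} (hp : p.Prime) (hn : 3 ≤ n) (hK : n ∣ K)
    (h : ∀ r : ℕ, r.Prime → r ∣ p ^ n - 1 → (∀ k, 0 < k → k < n → ¬ r ∣ p ^ k - 1) →
      ¬ r ^ 2 ∣ p ^ n - 1 ∧ r ∣ K) :
    CfsgLib.Zsigmondy.cyclotomicValue p n ∣ K := by
  rw [Nat.dvd_iff_prime_pow_dvd_dvd]
  intro q j hq hqj
  rcases Nat.eq_zero_or_pos j with rfl | hj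
  · simp
  haveI := Fact.mk hq
  have hqE : q ∣ Zsigmondy.cyclotomicValue p n := (dvd_pow_self q hj.ne').trans hqj
  by_cases hqn : q ∣ n
  · obtain rfl : j = 1 := by
      by_contra hne
      exact Zsigmondy.sq_not_dvd hp.one_lt (by omega) hqn hqE
        ((pow_dvd_pow q (show 2 ≤ j by omega)).trans hqj)
    rw [pow_one]
    exact hqn.trans hK
  · obtain ⟨k, m', hem, -, hord, -⟩ := Zsigmondy.orderOf_of_dvd (a := p) (by omega) hqE
    rcases k with _ | k
    · have hord' : orderOf (p : ZMod q) = n := by rw [hord]; simpa using hem.symm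
      obtain ⟨h1, h2⟩ := Zsigmondy.primitive_of_orderOf hp.pos hord'
      obtain ⟨hsq, hle⟩ := h q hq h1 h2
      obtain rfl : j = 1 := by
        by_contra hne
        exact hsq (((pow_dvd_pow q (show 2 ≤ j by omega)).trans hqj).trans
          (Zsigmondy.cyclotomicValue_dvd_pow_sub_one hp.pos n))
      rwa [pow_one]
    · exact absurd (hem ▸ (dvd_pow_self q (Nat.succ_ne_zero k)).mul_right m') hqn

omit hp in
/-- A primitive prime at most `2 n + 1` is `n + 1` or `2 n + 1`. -/
theorem primitive_small {p n r : ℕ} [Fact r.Prime] (hp : 0 < p) (hn : 0 < n) (hrd : r ∣ p ^ n - 1)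
    (hmin : ∀ k, 0 < k → k < n → ¬ r ∣ p ^ k - 1) (hle : r ≤ 2 * n + 1) :
    r = n + 1 ∨ r = 2 * n + 1 := by
  obtain ⟨c, hc⟩ := (Zsigmondy.dvd_sub_one_of_primitive hp hn hrd hmin).2
  have hr2 := (Fact.out : r.Prime).two_le
  have hc2 : c ≤ 2 := by
    by_contra hc3
    have : n * 3 ≤ n * c := Nat.mul_le_mul_left n (by omega)
    omega
  interval_cases c <;> omega

/-- A normal abelian subgroup with an element of order prime to `p ^ i - 1` for `i ≤ 2`, in degree six. -/
theorem small_six (hp2 : p ≠ 2) (hE : ∀ e : E, p • e = 0) (hcard : Nat.card E = p ^ 6)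
    (hD : ¬ p ∣ Nat.card D) (htrans : ∀ a b : E, a ≠ 0 → b ≠ 0 → ∃ d : D, d • a = b)
    (s : ℕ) [Fact s.Prime] (hs : 13 < s ∨ (13 = s ∧ ¬ 3 ∣ Nat.card D))
    (hsd : s ∣ p ^ 6 - 1) (hs1 : ¬ s ∣ p ^ 1 - 1) (hs2 : ¬ s ∣ p ^ 2 - 1)
    [Fact (Nat.Prime 7)] (h7 : 7 ∣ p ^ 6 - 1) (h7min : ∀ k, 0 < k → k < 6 → ¬ 7 ∣ p ^ k - 1) :
    Small D E := by
  classical
  haveI := nontrivial_of_card (E := E) (p := p) (n := 6) (by norm_num) hcard
  have hdvd := pow_sub_one_dvd_card hcard htrans
  obtain ⟨χ, hχ, hfaith, hdeg⟩ := exists_character hE hD hcard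
  obtain ⟨d, ρ, rfl⟩ := hχ
  have h1 : ρ.character 1 = (d : ℂ) := by rw [Representation.char_one, Module.finrank_fin_fun]
  have hd : d = 6 := by
    rw [← hdeg, Cfsg.charDegree, h1]; simp
  subst hd
  have hρ : Function.Injective ρ := fun g h hgh => by
    have h2 : g * h⁻¹ = 1 := by
      refine hfaith _ ?_
      rw [h1, (Char.character_eq_degree_iff ρ (g * h⁻¹)).mpr ?_, Module.finrank_fin_fun]
      rw [map_mul, hgh, ← map_mul, mul_inv_cancel, map_one]
      rfl
    exact mul_inv_eq_one.mp h2
  obtain ⟨P⟩ : Nonempty (Sylow s D) := inferInstance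
  have hPn : (P : Subgroup D).Normal := sylow_normal_of_degree ρ hρ (by omega) P
  have hsP : s ∣ Nat.card (P : Subgroup D) := P.dvd_card_of_dvd_card (hsd.trans hdvd)
  let A : Subgroup D := (Subgroup.center (P : Subgroup D)).map (P : Subgroup D).subtype
  haveI hAn : A.Normal := ConjAct.normal_of_characteristic_of_normal
  have hA : ∀ a ∈ A, ∀ b ∈ A, a * b = b * a := by
    rintro _ ⟨a, ha, rfl⟩ _ ⟨b, -, rfl⟩
    exact (congrArg Subtype.val (Subgroup.mem_center_iff.1 ha b)).symm
  haveI : Nontrivial (P : Subgroup D) :=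
    Finite.one_lt_card_iff_nontrivial.1
      (lt_of_lt_of_le (Fact.out : s.Prime).one_lt (Nat.le_of_dvd Nat.card_pos hsP))
  obtain ⟨z, hz⟩ := exists_prime_orderOf_dvd_card' (G := Subgroup.center (P : Subgroup D)) s
    (((P.2.to_subgroup (Subgroup.center (P : Subgroup D))).card_eq_or_dvd).resolve_left
      (fun h => not_subsingleton_iff_nontrivial.mpr P.2.center_nontrivial (Nat.card_eq_one_iff_unique.mp h).1))
  obtain ⟨a0, hza⟩ : ∃ a : A, orderOf a = s :=
    ⟨(Subgroup.center (P : Subgroup D)).equivMapOfInjective _ (P : Subgroup D).subtype_injective z, by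
      rw [MulEquiv.orderOf_eq, hz]⟩
  have hfaithE : ∀ g : D, (∀ v : E, g • v = v) → g = 1 := fun g hg =>
    FaithfulSMul.eq_of_smul_eq_smul fun v : E => by rw [hg, one_smul]
  obtain ⟨F, _, _, φ, σ, ι, hinj, hsemi, hι, hker⟩ :=
    CfsgLib.Semilinear.exists_field_of_abelian_normal htrans hfaithE A hA
  let : Module F E := Module.compHom E φ
  have happ : ∀ (f : F) (v : E), f • v = φ f v := fun _ _ => rfl
  haveI : Module.Finite F E := Module.Finite.of_finite
  obtain ⟨v0, hv0⟩ := exists_ne (0 : E)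
  have hp0 : ((p : ℕ) : F) = 0 := by
    have h : ((p : ℕ) : F) • v0 = 0 := by rw [Nat.cast_smul_eq_nsmul, hE]
    exact (smul_eq_zero.1 h).resolve_right hv0
  haveI : CharP F p := by
    obtain ⟨q, hq⟩ := CharP.exists F
    obtain rfl : q = p := ((Nat.prime_dvd_prime_iff_eq (CharP.char_prime_of_ne_zero F
      (CharP.char_ne_zero_of_finite F q)) hp.out).1 ((CharP.cast_eq_zero_iff F q p).1 hp0))
    exact hq
  obtain ⟨e, -, he⟩ := FiniteField.card F p
  have hed : (e : ℕ) * Module.finrank F E = 6 := by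
    have h := Module.natCard_eq_pow_finrank (K := F) (V := E)
    rw [hcard, Nat.card_eq_fintype_card, he, ← pow_mul] at h
    exact (Nat.pow_right_injective hp.out.two_le h).symm
  have hι1 : ∀ a : A, ι a ≠ 0 := fun a h => hv0 (by
    have := hι a v0
    rw [h, map_zero] at this
    exact (smul_eq_zero_iff_eq (a : D)).1 this.symm)
  have hιm : ∀ a b : A, ι (a * b) = ι a * ι b := fun a b => by
    have h : ι (a * b) • v0 = (ι a * ι b) • v0 := by
      rw [mul_smul, happ, happ, happ, hι, hι, hι, Subgroup.coe_mul, mul_smul]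
    exact smul_left_injective F hv0 h
  let ι' : A →* Fˣ := MonoidHom.mk' (fun a => Units.mk0 (ι a) (hι1 a)) fun a b => Units.ext (hιm a b)
  have hι'inj : Function.Injective ι' := fun a b h => Subtype.ext (FaithfulSMul.eq_of_smul_eq_smul
    fun v : E => by rw [← hι a v, ← hι b v, show ι a = ι b from congrArg Units.val h])
  have hse : s ∣ p ^ (e : ℕ) - 1 := by
    rw [← he, ← Fintype.card_units, ← hza, ← orderOf_injective ι' hι'inj, ← Nat.card_eq_fintype_card]
    exact orderOf_dvd_natCard _
  have he' : (e : ℕ) = 3 ∨ (e : ℕ) = 6 := by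
    have hd : (e : ℕ) ∣ 6 := ⟨_, hed.symm⟩
    have := Nat.le_of_dvd (by norm_num) hd
    have hpos := e.pos
    interval_cases h : (e : ℕ)
    all_goals first
      | exact absurd hse hs1 | exact absurd hse hs2 | exact Or.inl rfl | exact Or.inr rfl
      | norm_num at hd
  have hlin : ∀ g ∈ Subgroup.centralizer (A : Set D), ∀ (f : F) (v : E), g • f • v = f • g • v := by
    intro g hg f v
    rw [← hker, MonoidHom.mem_ker] at hg
    rw [happ, happ, hsemi, hg]
    rfl
  rcases he' with h3 | h6
  · obtain ⟨x, hx, hnorm⟩ := exists_normal_of_plane (r := 7) hp2 hE hD A φ hinj σ hsemi hker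
      (by rw [Nat.card_eq_fintype_card, he, h3, hcard, ← pow_mul]) (by norm_num) (Or.inl (by norm_num))
      (h7.trans hdvd) (by rw [Nat.card_eq_fintype_card, he, h3]; exact h7min 3 (by norm_num) (by norm_num))
      (fun x hx => by
        rw [← hker, MonoidHom.mem_ker]
        have hAut := (CfsgLib.Semilinear.isCyclic_ringEquiv_and_card (q := p) he).2
        haveI : Finite (F ≃+* F) := Finite.of_injective _ DFunLike.coe_injective
        have h1 : orderOf (σ x) ∣ 7 := hx ▸ orderOf_map_dvd σ x
        have h2 : orderOf (σ x) ∣ 3 := by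
          rw [← h3, ← hAut]; exact orderOf_dvd_natCard _
        exact orderOf_eq_one_iff.1 (Nat.dvd_one.1
          ((show Nat.gcd 7 3 = 1 by norm_num) ▸ Nat.dvd_gcd h1 h2)))
    exact small_of_normal_prim hE (by norm_num) hcard hD htrans h7 h7min hx hnorm
  · have hbij : Function.Bijective fun f : F => f • v0 :=
      (Nat.bijective_iff_injective_and_card _).2 ⟨smul_left_injective F hv0,
        by rw [Nat.card_eq_fintype_card, he, h6, hcard]⟩
    haveI : (Subgroup.centralizer (A : Set D)).Normal := hker ▸ σ.normal_ker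
    refine small_of_selfcent hE (by norm_num) hcard hD htrans (Subgroup.centralizer (A : Set D))
      (fun g hg h hh => FaithfulSMul.eq_of_smul_eq_smul fun v : E => ?_) fun g hg => ?_
    · obtain ⟨f, rfl⟩ := hbij.2 v
      obtain ⟨a, ha⟩ := hbij.2 (g • v0)
      obtain ⟨b, hb⟩ := hbij.2 (h • v0)
      simp only at ha hb ⊢
      rw [mul_smul, mul_smul, hlin h hh, hlin g hg, hlin g hg, hlin h hh, ← hb, hlin g hg, ← ha,
        hlin h hh, ← hb, smul_comm a b]
    · refine Subgroup.mem_centralizer_iff.2 fun a ha => ?_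
      refine Subgroup.mem_centralizer_iff.1 hg a (Subgroup.mem_centralizer_iff.2 fun b hb => ?_)
      exact hA b hb a ha

/-- The main result: a coprime group transitive on the nonzero vectors is `Small`. -/
theorem small_main (hE : ∀ e : E, p • e = 0) {n : ℕ} (hn : 0 < n) (hcard : Nat.card E = p ^ n)
    (hD : ¬ p ∣ Nat.card D) (htrans : ∀ a b : E, a ≠ 0 → b ≠ 0 → ∃ d : D, d • a = b) : Small D E := by
  rcases (show n = 1 ∨ n = 2 ∨ 3 ≤ n by omega) with rfl | rfl | hn3
  · exact small_line (by rw [hcard, pow_one])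
  · exact small_plane hE hcard hD htrans
  haveI := nontrivial_of_card (E := E) hn hcard
  rcases (show p = 2 ∨ p = 3 ∨ 5 ≤ p by
    rcases hp.out.eq_two_or_odd with h | h
    · exact Or.inl h
    · have := hp.out.two_le; omega) with rfl | rfl | hp5
  · exact small_two hE (by omega) hcard hD htrans
  · have hdvd := pow_sub_one_dvd_card hcard htrans
    by_cases hex : ∃ r : ℕ, r.Prime ∧ r ∣ 3 ^ n - 1 ∧ (∀ k, 0 < k → k < n → ¬ r ∣ 3 ^ k - 1) ∧
        (r ^ 2 ∣ 3 ^ n - 1 ∨ 2 * n + 1 ≤ r)
    · obtain ⟨r, hr, hrd, hmin, hbig⟩ := hex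
      haveI := Fact.mk hr
      by_cases hbig' : r ^ 2 ∣ Nat.card D ∨ 2 * n + 1 < r
      · obtain ⟨x, hx, hnorm⟩ :=
          exists_normal_zpowers hE hD (by omega) hcard hrd hmin (hrd.trans hdvd) hbig'
        exact small_of_normal_prim hE (by omega) hcard hD htrans hrd hmin hx hnorm
      · push Not at hbig'
        have hr1 : 2 * n + 1 = r := le_antisymm
          (hbig.resolve_left fun h => hbig'.1 (h.trans hdvd)) hbig'.2
        obtain ⟨χ, hχ, hfaith, hdeg⟩ := exists_character hE hD hcard
        obtain ⟨d, ρ, rfl⟩ := hχ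
        have h1 : ρ.character 1 = (d : ℂ) := by rw [Representation.char_one, Module.finrank_fin_fun]
        have hd : d = n := by
          rw [← hdeg, Cfsg.charDegree, h1]; simp
        subst hd
        have hρ : Function.Injective ρ := fun g h hgh => by
          have h2 : g * h⁻¹ = 1 := by
            refine hfaith _ ?_
            rw [h1, (Char.character_eq_degree_iff ρ (g * h⁻¹)).mpr ?_, Module.finrank_fin_fun]
            rw [map_mul, hgh, ← map_mul, mul_inv_cancel, map_one]
            rfl
          exact mul_inv_eq_one.mp h2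
        obtain ⟨P⟩ : Nonempty (Sylow r D) := inferInstance
        have hPn := sylow_normal_of_degree ρ hρ (Or.inr ⟨hr1, hD, by omega⟩) P
        have hPc : Nat.card (P : Subgroup D) = r := by
          obtain ⟨k, hk⟩ := IsPGroup.iff_card.1 P.2
          have h1 : r ∣ r ^ k := hk ▸ P.dvd_card_of_dvd_card (hrd.trans hdvd)
          rcases (show k = 0 ∨ k = 1 ∨ 2 ≤ k by omega) with rfl | rfl | h
          · exact absurd (Nat.dvd_one.1 (by simpa using h1)) hr.ne_one
          · rw [hk, pow_one]
          · have h3 := Subgroup.card_subgroup_dvd_card (P : Subgroup D)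
            rw [hk] at h3
            exact absurd ((pow_dvd_pow r h).trans h3) hbig'.1
        obtain ⟨z, hz⟩ := exists_prime_orderOf_dvd_card' (G := (P : Subgroup D)) r (dvd_of_eq hPc.symm)
        have hzP : Subgroup.zpowers (z : D) = P :=
          Subgroup.eq_of_le_of_card_ge (Subgroup.zpowers_le.mpr z.2)
            (by rw [Nat.card_zpowers, Subgroup.orderOf_coe, hz, hPc])
        exact small_of_normal_prim hE (by omega) hcard hD htrans hrd hmin
          (by rw [Subgroup.orderOf_coe, hz]) (hzP ▸ hPn)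
    · push Not at hex
      have hsmall := cyclotomicValue_dvd (K := n * (n + 1)) hp.out hn3 (dvd_mul_right _ _)
        fun r hr hrd hmin => by
          haveI := Fact.mk hr
          obtain ⟨hsq, hlt⟩ := hex r hr hrd hmin
          refine ⟨hsq, ?_⟩
          rcases primitive_small (by norm_num) hn hrd hmin (by omega) with h | h
          · exact h ▸ dvd_mul_left _ _
          · omega
      rcases three_primitive_part hn3 hsmall with rfl | rfl
      · haveI : Fact (Nat.Prime 5) := ⟨by norm_num⟩
        rcases eighty_one hE hcard hD htrans with ⟨x, hx, hnorm⟩ | h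
        · exact small_of_normal_prim (r := 5) hE (by norm_num) hcard hD htrans (by norm_num)
            (by intro k hk hk'; interval_cases k <;> norm_num) hx hnorm
        · exact h
      · haveI : Fact (Nat.Prime 7) := ⟨by norm_num⟩
        haveI : Fact (Nat.Prime 13) := ⟨by norm_num⟩
        exact small_six (by norm_num) hE hcard hD htrans 13 (Or.inr ⟨rfl, hD⟩) (by norm_num) (by norm_num)
          (by norm_num) (by norm_num) (by intro k hk hk'; interval_cases k <;> norm_num)
  · have hdvd := pow_sub_one_dvd_card hcard htrans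
    by_cases hex : ∃ r : ℕ, r.Prime ∧ r ∣ p ^ n - 1 ∧ (∀ k, 0 < k → k < n → ¬ r ∣ p ^ k - 1) ∧
        (r ^ 2 ∣ p ^ n - 1 ∨ 2 * n + 1 < r)
    · obtain ⟨r, hr, hrd, hmin, hbig⟩ := hex
      haveI := Fact.mk hr
      obtain ⟨x, hx, hnorm⟩ := exists_normal_zpowers hE hD (by omega) hcard hrd hmin (hrd.trans hdvd)
        (hbig.imp_left fun h => h.trans hdvd)
      exact small_of_normal_prim hE (by omega) hcard hD htrans hrd hmin hx hnorm
    · push Not at hex
      have hsmall := cyclotomicValue_dvd (K := n * ((n + 1) * (2 * n + 1))) hp.out hn3 (dvd_mul_right _ _)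
        fun r hr hrd hmin => by
          haveI := Fact.mk hr
          obtain ⟨hsq, hle⟩ := hex r hr hrd hmin
          refine ⟨hsq, Dvd.dvd.mul_left ?_ n⟩
          rcases primitive_small hp.out.pos hn hrd hmin hle with h | h
          · exact h ▸ dvd_mul_right _ _
          · exact h ▸ dvd_mul_left _ _
      haveI : Fact (Nat.Prime 7) := ⟨by norm_num⟩
      obtain ⟨rfl, rfl | rfl⟩ := small_primitive_part hp.out hp5 hn3 hsmall
      · haveI : Fact (Nat.Prime 31) := ⟨by norm_num⟩
        exact small_six (by norm_num) hE hcard hD htrans 31 (Or.inl (by norm_num)) (by norm_num) (by norm_num)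
          (by norm_num) (by norm_num) (by intro k hk hk'; interval_cases k <;> norm_num)
      · haveI : Fact (Nat.Prime 307) := ⟨by norm_num⟩
        exact small_six (by norm_num) hE hcard hD htrans 307 (Or.inl (by norm_num)) (by norm_num) (by norm_num)
          (by norm_num) (by norm_num) (by intro k hk hk'; interval_cases k <;> norm_num)

end CfsgLib.KgvTrans
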