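import Mathlib
import Cfsg.Agent.Lib.KgvTrans.Defs
import Cfsg.Agent.Lib.Semilinear.NormalAbelian
import Cfsg.Agent.S4956
import Cfsg.Agent.S4958

/-!
# Class number of `V ⋊ G` for `G` transitive on `V \ {1}`: reduction to the linear group
-/

set_option autoImplicit false
set_option linter.style.haveILetI false

namespace CfsgLib.KgvTrans

/-- A group of order at most `3` is commutative. -/
theorem comm_of_card_le_three {H : Type*} [Group H] [Finite H] (h : Nat.card H ≤ 3) (a b : H) :
    a * b = b * a := by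
  have hpos : 0 < Nat.card H := Nat.card_pos
  have hc : IsCyclic H := by
    rcases (show Nat.card H = 1 ∨ Nat.card H = 2 ∨ Nat.card H = 3 by omega) with h1 | h1 | h1
    · haveI := (Nat.card_eq_one_iff_unique.1 h1).1
      infer_instance
    · exact @isCyclic_of_prime_card H _ 2 ⟨Nat.prime_two⟩ h1
    · exact @isCyclic_of_prime_card H _ 3 ⟨Nat.prime_three⟩ h1
  exact hc.commGroup.mul_comm a b

theorem card_conjClasses_le (H : Type*) [Group H] [Finite H] :
    Nat.card (ConjClasses H) ≤ Nat.card H :=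
  Nat.card_le_card_of_surjective _ ConjClasses.mk_surjective

theorem comm_of_card_conjClasses_eq {H : Type*} [Group H] [Finite H]
    (h : Nat.card (ConjClasses H) = Nat.card H) (a b : H) : a * b = b * a := by
  have hb := (Nat.bijective_iff_surjective_and_card (ConjClasses.mk : H → ConjClasses H)).2
    ⟨ConjClasses.mk_surjective, h.symm⟩
  have h1 : a * b * a⁻¹ = b :=
    hb.1 (ConjClasses.mk_eq_mk_iff_isConj.2 (isConj_iff.2 ⟨a, rfl⟩)).symm
  exact mul_inv_eq_iff_eq_mul.1 h1

universe u

/-- The statement for a nontrivial module, given the bound for the linear group. -/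
theorem class_number_of_small {X : Type u} [Group X] [Finite X] (p : ℕ) [Fact p.Prime]
    (V : Subgroup X) [V.Normal] (hVexp : ∀ v ∈ V, v ^ p = 1) (hidx : ¬ p ∣ V.index)
    (hself : Subgroup.centralizer (V : Set X) = V) (G : Subgroup X)
    (hGV : Subgroup.IsComplement' V G)
    (htrans : ∀ v ∈ V, ∀ w ∈ V, v ≠ 1 → w ≠ 1 → ∃ g ∈ G, g * v * g⁻¹ = w) (hne : V ≠ ⊥)
    (main : ∀ {E : Type u} [AddCommGroup E] [Finite E] [DistribMulAction ↥G E] [FaithfulSMul ↥G E]
      (_ : E ≃ ↥V) (n : ℕ), (∀ e : E, p • e = 0) → 0 < n → Nat.card E = p ^ n →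
      (∀ a b : E, a ≠ 0 → b ≠ 0 → ∃ d : ↥G, d • a = b) → Small ↥G E) :
    Nat.card (ConjClasses X) ≤ Nat.card V ∧ (Nat.card (ConjClasses X) = Nat.card V →
      (IsCyclic G ∨ (Nat.card V = 8 ∧ Nat.card G = 21) ∨ (Nat.card V = 9 ∧ Nat.card G = 16))) := by
  classical
  have hab : ∀ a ∈ V, ∀ b ∈ V, a * b = b * a := fun a ha b hb => by
    rw [← hself] at ha
    exact (Subgroup.mem_centralizer_iff.1 ha b hb).symm
  letI : CommGroup ↥V :=
    { Subgroup.toGroup V with mul_comm := fun a b => Subtype.ext (hab a a.2 b b.2) }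
  let φ : ↥G →* MulAut ↥V := (MulAut.conjNormal (H := V)).comp G.subtype
  have hφ : ∀ (g : ↥G) (v : ↥V), ((φ g v : ↥V) : X) = g * v * (g : X)⁻¹ := fun g v =>
    MulAut.conjNormal_apply (g : X) v
  letI act : DistribMulAction ↥G (Additive ↥V) :=
    { smul := fun g e => Additive.ofMul (φ g e.toMul)
      one_smul := fun e => by
        show Additive.ofMul (φ 1 e.toMul) = e
        rw [map_one]; rfl
      mul_smul := fun g h e => by
        show Additive.ofMul (φ (g * h) e.toMul) = Additive.ofMul (φ g (φ h e.toMul))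
        rw [map_mul]; rfl
      smul_zero := fun g => congrArg Additive.ofMul (map_one (φ g))
      smul_add := fun g a b => congrArg Additive.ofMul (map_mul (φ g) a.toMul b.toMul) }
  have hsmul : ∀ (g : ↥G) (e : Additive ↥V),
      (((g • e).toMul : ↥V) : X) = g * (e.toMul : X) * (g : X)⁻¹ := fun g e => hφ g e.toMul
  haveI : FaithfulSMul ↥G (Additive ↥V) := ⟨fun {g h} hgh => by
    have hmem : ((g⁻¹ * h : ↥G) : X) ∈ Subgroup.centralizer (V : Set X) := by
      rw [Subgroup.mem_centralizer_iff]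
      intro a ha
      have h1 := congrArg (fun e : Additive ↥V => ((e.toMul : ↥V) : X)) (hgh (Additive.ofMul ⟨a, ha⟩))
      simp only [hsmul, toMul_ofMul] at h1
      calc a * ((g⁻¹ * h : ↥G) : X) = (g : X)⁻¹ * ((g : X) * a * (g : X)⁻¹) * h := by
            rw [Subgroup.coe_mul, Subgroup.coe_inv]; group
        _ = (g : X)⁻¹ * ((h : X) * a * (h : X)⁻¹) * h := by rw [h1]
        _ = ((g⁻¹ * h : ↥G) : X) * a := by
            rw [Subgroup.coe_mul, Subgroup.coe_inv]; group
    rw [hself] at hmem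
    have h2 : (g⁻¹ * h : ↥G) = 1 :=
      Subtype.ext (Subgroup.disjoint_def.1 hGV.disjoint hmem (g⁻¹ * h : ↥G).2)
    exact inv_mul_eq_one.1 h2⟩
  have hp : p.Prime := Fact.out
  have hVp : IsPGroup p ↥V := fun a => ⟨1, Subtype.ext (by rw [pow_one]; exact hVexp a a.2)⟩
  obtain ⟨n, hn⟩ := IsPGroup.iff_card.1 hVp
  have hn0 : 0 < n := Nat.pos_of_ne_zero fun h => hne (Subgroup.card_eq_one.1 (by rw [hn, h, pow_zero]))
  have hcardE : Nat.card (Additive ↥V) = Nat.card ↥V := Nat.card_congr Additive.toMul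
  have hE : ∀ e : Additive ↥V, p • e = 0 := fun e => by
    rw [← ofMul_toMul e, ← ofMul_pow, ← ofMul_one]
    exact congrArg Additive.ofMul (Subtype.ext (by
      rw [SubmonoidClass.coe_pow, hVexp _ e.toMul.2, OneMemClass.coe_one]))
  have htr : ∀ a b : Additive ↥V, a ≠ 0 → b ≠ 0 → ∃ d : ↥G, d • a = b := by
    intro a b ha hb
    obtain ⟨g, hg, hgab⟩ := htrans _ a.toMul.2 _ b.toMul.2
      (fun h => ha (congrArg Additive.ofMul (Subtype.ext h : a.toMul = 1)))
      (fun h => hb (congrArg Additive.ofMul (Subtype.ext h : b.toMul = 1)))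
    exact ⟨⟨g, hg⟩, Additive.toMul.injective (Subtype.ext ((hsmul _ a).trans hgab))⟩
  have hsmall := main (E := Additive ↥V) Additive.toMul n hE hn0 (hcardE.trans hn) htr
  obtain ⟨v, hv, hv1⟩ := (V.bot_or_exists_ne_one).resolve_left hne
  set e : Additive ↥V := Additive.ofMul ⟨v, hv⟩ with he
  have he0 : e ≠ 0 := fun h => hv1 (congrArg Subtype.val (congrArg Additive.toMul h))
  set C : Subgroup X := G ⊓ Subgroup.centralizer ({v} : Set X) with hC
  let ev : MulAction.stabilizer ↥G e ≃ ↥C :=
    { toFun := fun g => ⟨((g : ↥G) : X), (g : ↥G).2, Subgroup.mem_centralizer_singleton_iff.2 (by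
        have h := congrArg (fun e : Additive ↥V => ((e.toMul : ↥V) : X))
          (MulAction.mem_stabilizer_iff.1 g.2)
        simp only [hsmul, he, toMul_ofMul] at h
        exact mul_inv_eq_iff_eq_mul.1 h)⟩
      invFun := fun c => ⟨⟨c, c.2.1⟩, MulAction.mem_stabilizer_iff.2
        (Additive.toMul.injective (Subtype.ext (by
          rw [hsmul, he, toMul_ofMul]
          exact mul_inv_eq_iff_eq_mul.2 (Subgroup.mem_centralizer_singleton_iff.1 c.2.2))))⟩
      left_inv := fun g => rfl
      right_inv := fun c => rfl }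
  have hstab : Nat.card (MulAction.stabilizer ↥G e) = Nat.card ↥C := Nat.card_congr ev
  have hG : Nat.card ↥G = V.index := (hGV.symm.index_eq_card).symm
  have hcop : (Nat.card ↥V).Coprime (Nat.card ↥G) := by
    rw [hn, hG]
    exact Nat.Coprime.pow_left n (hp.coprime_iff_not_dvd.2 hidx)
  have hsum : Nat.card (ConjClasses X) =
      Nat.card (ConjClasses ↥G) + Nat.card (ConjClasses ↥C) := by
    have h := Cfsg.Agent.S4956.result V hab G hGV hcop {1, v}
      (fun s hs => by
        rcases Finset.mem_insert.1 hs with rfl | hs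
        · exact one_mem V
        · rw [Finset.mem_singleton.1 hs]; exact hv)
      (fun w hw => by
        by_cases hw1 : w = 1
        · refine ⟨1, ⟨Finset.mem_insert_self _ _, 1, one_mem G, by simp [hw1]⟩, ?_⟩
          rintro s ⟨-, g, -, rfl⟩
          simp [hw1]
        · obtain ⟨g, hg, hgw⟩ := htrans w hw v hv hw1 hv1
          refine ⟨v, ⟨Finset.mem_insert_of_mem (Finset.mem_singleton_self _), g, hg, hgw⟩, ?_⟩
          rintro s ⟨hs, k, -, rfl⟩
          rcases Finset.mem_insert.1 hs with h1 | h1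
          · exact absurd (conj_eq_one_iff.1 h1) hw1
          · exact Finset.mem_singleton.1 h1)
    rw [h, Finset.sum_pair (Ne.symm hv1)]
    congr 1
    have hc1 : G ⊓ Subgroup.centralizer ({(1 : X)} : Set X) = G :=
      inf_eq_left.2 fun g _ => Subgroup.mem_centralizer_singleton_iff.2 (by simp)
    exact Nat.card_congr (Equiv.cast (by rw [hc1]))
  have hkC : Nat.card (ConjClasses ↥C) ≤ Nat.card ↥C := card_conjClasses_le _
  have horb : Nat.card ↥G = (Nat.card ↥V - 1) * Nat.card (MulAction.stabilizer ↥G e) := by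
    have h : MulAction.orbit ↥G e = ({0} : Set (Additive ↥V))ᶜ := by
      ext w
      refine ⟨?_, fun hw => htr e w he0 hw⟩
      rintro ⟨d, rfl⟩ h0
      exact he0 (smul_left_cancel d (h0.trans (smul_zero d).symm))
    have h1 := MulAction.index_stabilizer ↥G e
    rw [h, Set.ncard_compl, Set.ncard_singleton, hcardE] at h1
    rw [← (MulAction.stabilizer ↥G e).card_mul_index, h1, mul_comm]
  have hVpos : 0 < Nat.card ↥V := Nat.card_pos
  have hexc : (Nat.card ↥V = 8 ∧ Nat.card ↥G = 21) ∨ (Nat.card ↥V = 9 ∧ Nat.card ↥G = 16) →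
      Nat.card (ConjClasses X) ≤ Nat.card V := by
    intro h
    refine Cfsg.Agent.S4958.result p V hVexp hidx hself G hGV v hv fun a ha b hb => ?_
    have hle : Nat.card ↥C ≤ 3 := by
      rw [← hstab]
      rcases h with ⟨h1, h2⟩ | ⟨h1, h2⟩ <;> rw [h1, h2] at horb <;> omega
    exact congrArg Subtype.val (comm_of_card_le_three hle (⟨a, ha⟩ : ↥C) ⟨b, hb⟩)
  rcases hsmall e he0 with h | h | h | h
  · have hone : Nat.card (ConjClasses ↥C) ≤ 1 := hkC.trans (le_of_eq (hstab.symm.trans h))
    rw [h, mul_one] at horb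
    have hkG := card_conjClasses_le ↥G
    refine ⟨by omega, fun heq => Or.inl ?_⟩
    have hcomm := comm_of_card_conjClasses_eq (H := ↥G) (by omega)
    have hfree : ∀ w : Additive ↥V, w ≠ 0 → ∀ g : ↥G, g • w = w → g = 1 := by
      intro w hw g hg
      obtain ⟨d, hd⟩ := htr e w he0 hw
      have hge : g ∈ MulAction.stabilizer ↥G e := by
        rw [MulAction.mem_stabilizer_iff]
        have h1 : g • d • e = d • e := by rw [hd]; exact hg
        rw [← mul_smul, hcomm g d, mul_smul] at h1
        exact smul_left_cancel d h1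
      have h2 := Subgroup.card_eq_one.1 h
      rw [h2] at hge
      exact Subgroup.mem_bot.1 hge
    haveI : Nontrivial (Additive ↥V) := ⟨⟨e, 0, he0⟩⟩
    have hcyc := CfsgLib.Semilinear.isCyclic_of_free hfree (⊤ : Subgroup ↥G) fun a _ b _ => hcomm a b
    exact Subgroup.topEquiv.isCyclic.1 hcyc
  · rw [hcardE, hstab] at h
    exact ⟨by omega, fun heq => by omega⟩
  · rw [hcardE] at h
    exact ⟨hexc (Or.inl h), fun _ => Or.inr (Or.inl h)⟩
  · rw [hcardE] at h
    exact ⟨hexc (Or.inr h), fun _ => Or.inr (Or.inr h)⟩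

end CfsgLib.KgvTrans
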